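import Mathlib
import Cfsg.Prelude.Def_ParabolicCharacters

set_option autoImplicit false

/-!
Bruhat decomposition of `GL n F` by column reduction.
-/

namespace Cfsg.Agent.Lib.GLFlags

open scoped MatrixGroups
open Matrix

variable {n : ℕ} {F : Type*} [Field F]

/-- the permutation matrix sending the basis vector `e_j` to `e_{w j}` -/
noncomputable def permGL (w : Equiv.Perm (Fin n)) : GL (Fin n) F where
  val := Matrix.of fun i j => if i = w j then 1 else 0
  inv := Matrix.of fun i j => if w i = j then 1 else 0
  val_inv := by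
    ext i j
    rw [Matrix.mul_apply, Fintype.sum_eq_single (w.symm i)]
    · simp [Matrix.one_apply]
    · intro k hk
      have : i ≠ w k := fun h => hk (by rw [h, Equiv.symm_apply_apply])
      simp [this]
  inv_val := by
    ext i j
    rw [Matrix.mul_apply, Fintype.sum_eq_single (w i)]
    · simp [Matrix.one_apply]
    · intro k hk
      simp [Ne.symm hk]

theorem permGL_apply (w : Equiv.Perm (Fin n)) (i j : Fin n) :
    (permGL w : GL (Fin n) F).val i j = if i = w j then 1 else 0 := rfl

theorem permGL_one : (permGL 1 : GL (Fin n) F) = 1 := by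
  refine Units.ext ?_
  ext i j
  rw [permGL_apply, Units.val_one, Matrix.one_apply]
  rfl

theorem permGL_mul (v w : Equiv.Perm (Fin n)) :
    (permGL (v * w) : GL (Fin n) F) = permGL v * permGL w := by
  refine Units.ext ?_
  ext i j
  rw [Units.val_mul, Matrix.mul_apply, Fintype.sum_eq_single (w j)]
  · simp only [permGL_apply, if_true, mul_one]
    rfl
  · intro k hk
    simp [permGL_apply, hk]

theorem permGL_inv (w : Equiv.Perm (Fin n)) :
    (permGL w⁻¹ : GL (Fin n) F) = (permGL w)⁻¹ :=
  eq_inv_of_mul_eq_one_left (by rw [← permGL_mul, inv_mul_cancel, permGL_one])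

theorem permGL_mulVec (w : Equiv.Perm (Fin n)) (v : Fin n → F) (k : Fin n) :
    ((permGL w : GL (Fin n) F).val *ᵥ v) (w k) = v k := by
  rw [Matrix.mulVec, dotProduct, Fintype.sum_eq_single k]
  · simp [permGL_apply]
  · intro j hj
    have : w k ≠ w j := fun h => hj (w.injective h).symm
    simp [permGL_apply, this]

theorem mul_permGL_apply (g : GL (Fin n) F) (w : Equiv.Perm (Fin n)) (i j : Fin n) :
    (g * permGL w).val i j = g.val i (w j) := by
  rw [Units.val_mul, Matrix.mul_apply, Fintype.sum_eq_single (w j)]
  · simp [permGL_apply]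
  · intro k hk
    simp [permGL_apply, hk]

theorem mem_upperTriangularGL_iff (g : GL (Fin n) F) :
    g ∈ Cfsg.upperTriangularGL n F ↔ ∀ i j : Fin n, j < i → g.val i j = 0 :=
  Iff.rfl

theorem col_ne_zero (g : GL (Fin n) F) (j : Fin n) : ∃ i, g.val i j ≠ 0 := by
  by_contra h
  push Not at h
  have h1 := congrFun (congrFun g.inv_val j) j
  simp [Matrix.mul_apply, h] at h1

open Classical in
/-- the lowest row with a nonzero entry in column `j` -/
noncomputable def pivot (g : GL (Fin n) F) (j : Fin n) : Fin n :=
  (Finset.univ.filter fun i => g.val i j ≠ 0).max' (by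
    obtain ⟨i, hi⟩ := col_ne_zero g j
    exact ⟨i, by simp [hi]⟩)

theorem pivot_apply_ne_zero (g : GL (Fin n) F) (j : Fin n) : g.val (pivot g j) j ≠ 0 := by
  classical
  have := Finset.max'_mem _ (show (Finset.univ.filter fun i => g.val i j ≠ 0).Nonempty by
    obtain ⟨i, hi⟩ := col_ne_zero g j
    exact ⟨i, by simp [hi]⟩)
  simpa [pivot] using this

theorem apply_eq_zero_of_pivot_lt (g : GL (Fin n) F) (j i : Fin n) (h : pivot g j < i) :
    g.val i j = 0 := by
  classical
  by_contra hne
  have : i ≤ pivot g j := Finset.le_max' _ i (by simp [hne])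
  exact absurd this (not_le.2 h)

/-- Bruhat decomposition. -/
theorem exists_bruhat (g : GL (Fin n) F) :
    ∃ (w : Equiv.Perm (Fin n)), ∃ b ∈ Cfsg.upperTriangularGL n F, ∃ b' ∈ Cfsg.upperTriangularGL n F,
      g = b * permGL w * b' := by
  induction hN : ∑ j, (pivot g j).val using Nat.strong_induction_on generalizing g with
  | _ N ih =>
  by_cases hinj : Function.Injective (pivot g)
  · let w : Equiv.Perm (Fin n) := Equiv.ofBijective _ (Finite.injective_iff_bijective.1 hinj)
    refine ⟨w, g * permGL w⁻¹, ?_, 1, one_mem _, ?_⟩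
    · rw [mem_upperTriangularGL_iff]
      intro i c hci
      rw [mul_permGL_apply]
      apply apply_eq_zero_of_pivot_lt
      have : pivot g (w⁻¹ c) = c := w.apply_symm_apply c
      rwa [this]
    · rw [mul_one, permGL_inv, inv_mul_cancel_right]
  · obtain ⟨j, k, hjk, hne⟩ : ∃ j k, pivot g j = pivot g k ∧ j < k := by
      simp only [Function.Injective] at hinj
      push Not at hinj
      obtain ⟨a, b, hab, hne⟩ := hinj
      rcases lt_or_gt_of_ne hne with h | h
      · exact ⟨a, b, hab, h⟩
      · exact ⟨b, a, hab.symm, h⟩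
    set r := pivot g k with hr
    set t : F := -(g.val r k) / g.val r j with ht
    have hrj : g.val r j ≠ 0 := hjk ▸ pivot_apply_ne_zero g j
    let T : GL (Fin n) F := GeneralLinearGroup.mkOfDetNeZero (Matrix.transvection j k t)
      (by rw [Matrix.det_transvection_of_ne j k hne.ne]; exact one_ne_zero)
    have hT : T ∈ Cfsg.upperTriangularGL n F := by
      rw [mem_upperTriangularGL_iff]
      intro a b hab
      show Matrix.transvection j k t a b = 0
      rw [Matrix.transvection, Matrix.add_apply, Matrix.one_apply_ne hab.ne', zero_add,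
        Matrix.single_apply, if_neg]
      rintro ⟨rfl, rfl⟩
      exact lt_asymm hab hne
    have hval : (g * T).val = g.val * Matrix.transvection j k t := rfl
    have hsame : ∀ i c, c ≠ k → (g * T).val i c = g.val i c := by
      intro i c hc
      rw [hval, Matrix.mul_transvection_apply_of_ne j k i c hc]
    have hk : ∀ i, (g * T).val i k = g.val i k + t * g.val i j := by
      intro i
      rw [hval, Matrix.mul_transvection_apply_same]
    have hpk : pivot (g * T) k < r := by
      by_contra hle
      rw [not_lt] at hle
      apply pivot_apply_ne_zero (g * T) k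
      rw [hk]
      rcases eq_or_lt_of_le hle with h | h
      · rw [← h, ht, div_mul_cancel₀ _ hrj, add_neg_cancel]
      · rw [apply_eq_zero_of_pivot_lt g k _ h, apply_eq_zero_of_pivot_lt g j _ (by rw [hjk]; exact h)]
        simp
    have hpc : ∀ c, c ≠ k → pivot (g * T) c = pivot g c := by
      intro c hc
      apply le_antisymm
      · by_contra hle
        rw [not_le] at hle
        apply pivot_apply_ne_zero (g * T) c
        rw [hsame _ c hc]
        exact apply_eq_zero_of_pivot_lt g c _ hle
      · by_contra hle
        rw [not_le] at hle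
        apply pivot_apply_ne_zero g c
        rw [← hsame _ c hc]
        exact apply_eq_zero_of_pivot_lt (g * T) c _ hle
    have hlt : ∑ c, (pivot (g * T) c).val < N := by
      rw [← hN]
      refine Finset.sum_lt_sum (fun c _ => ?_) ⟨k, Finset.mem_univ k, hpk⟩
      by_cases hc : c = k
      · subst hc; exact le_of_lt hpk
      · rw [hpc c hc]
    obtain ⟨w, b, hb, b', hb', e⟩ := ih _ hlt (g * T) rfl
    exact ⟨w, b, hb, b' * T⁻¹, mul_mem hb' (inv_mem hT), by rw [← mul_assoc, ← e, mul_inv_cancel_right]⟩

end Cfsg.Agent.Lib.GLFlags
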