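import Mathlib

set_option autoImplicit false

/-!
The Cauchy determinant identity, read off as an identity between numbers of contingency tables:
for strictly increasing `l`, `l'` the signed count of tables with margins `l - κ`, `l' - κ'` is
`δ(l, l')`.
-/

namespace Cfsg.Agent.Lib.GLFlags

open Finset

/-- matrices of natural numbers with given row sums and column sums -/
abbrev Table {n : ℕ} (r c : Fin n → ℕ) : Type :=
  {M : Fin n → Fin n → ℕ // (∀ i, ∑ j, M i j = r i) ∧ (∀ j, ∑ i, M i j = c j)}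

namespace Cauchy

variable {n : ℕ}

/-- exponent vector -/
noncomputable def expo (r c : Fin n → ℕ) : Fin n ⊕ Fin n →₀ ℕ :=
  Finsupp.equivFunOnFinite.symm (Sum.elim r c)

/-- exponent of `x_i y_j` -/
noncomputable def pairExp (p : Fin n × Fin n) : Fin n ⊕ Fin n →₀ ℕ :=
  Finsupp.single (Sum.inl p.1) 1 + Finsupp.single (Sum.inr p.2) 1

/-- the variable `x_i` -/
noncomputable def xv (i : Fin n) : MvPowerSeries (Fin n ⊕ Fin n) ℤ := MvPowerSeries.X (Sum.inl i)

/-- the variable `y_j` -/
noncomputable def yv (j : Fin n) : MvPowerSeries (Fin n ⊕ Fin n) ℤ := MvPowerSeries.X (Sum.inr j)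

open Classical in
/-- the series `1/(1 - x_i y_j)` -/
noncomputable def geo (p : Fin n × Fin n) : MvPowerSeries (Fin n ⊕ Fin n) ℤ :=
  fun d => if ∃ a : ℕ, d = a • pairExp p then 1 else 0

open Classical in
theorem coeff_geo (p : Fin n × Fin n) (d : Fin n ⊕ Fin n →₀ ℕ) :
    MvPowerSeries.coeff d (geo p) = if ∃ a : ℕ, d = a • pairExp p then (1 : ℤ) else 0 := rfl

theorem pairExp_inl (p : Fin n × Fin n) : pairExp p (Sum.inl p.1) = 1 := by
  simp [pairExp]

theorem xv_mul_yv (p : Fin n × Fin n) :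
    xv p.1 * yv p.2 = MvPowerSeries.monomial (pairExp p) (1 : ℤ) := by
  rw [xv, yv, MvPowerSeries.X_def, MvPowerSeries.X_def, MvPowerSeries.monomial_mul_monomial, mul_one]
  rfl

theorem geo_mul (p : Fin n × Fin n) : geo p * (1 - xv p.1 * yv p.2) = 1 := by
  classical
  ext d
  rw [xv_mul_yv, mul_sub, mul_one, map_sub, MvPowerSeries.coeff_mul_monomial,
    MvPowerSeries.coeff_one, coeff_geo]
  have h1 := pairExp_inl p
  by_cases hd : d = 0
  · subst hd
    have hle : ¬ pairExp p ≤ (0 : Fin n ⊕ Fin n →₀ ℕ) := fun h => by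
      have := h (Sum.inl p.1); rw [h1] at this; simp at this
    rw [if_pos (⟨0, by simp⟩ : ∃ a : ℕ, (0 : Fin n ⊕ Fin n →₀ ℕ) = a • pairExp p), if_neg hle,
      if_pos rfl, sub_zero]
  · rw [if_neg hd]
    by_cases he : ∃ a : ℕ, d = a • pairExp p
    · obtain ⟨a, ha⟩ := he
      have ha1 : a ≠ 0 := fun h => hd (by rw [ha, h, zero_smul])
      obtain ⟨b, rfl⟩ := Nat.exists_eq_succ_of_ne_zero ha1
      have hd' : d = b • pairExp p + pairExp p := by rw [ha, succ_nsmul]
      have hle : pairExp p ≤ d := hd' ▸ le_add_self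
      have hb : ∃ a : ℕ, d - pairExp p = a • pairExp p := ⟨b, by rw [hd', add_tsub_cancel_right]⟩
      rw [if_pos ⟨b + 1, ha⟩, if_pos hle, coeff_geo, if_pos hb]
      simp
    · rw [if_neg he]
      by_cases hle : pairExp p ≤ d
      · have hb : ¬ ∃ a : ℕ, d - pairExp p = a • pairExp p := by
          rintro ⟨a, ha⟩
          exact he ⟨a + 1, by rw [succ_nsmul, ← ha, tsub_add_cancel_of_le hle]⟩
        rw [if_pos hle, coeff_geo, if_neg hb]
        simp
      · rw [if_neg hle]
        simp

theorem coeff_prod_geo {ι : Type*} [Fintype ι] (p : ι → Fin n × Fin n)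
    (d : Fin n ⊕ Fin n →₀ ℕ) :
    MvPowerSeries.coeff d (∏ i, geo (p i)) =
      (Nat.card {M : ι → ℕ // ∑ i, M i • pairExp (p i) = d} : ℤ) := by
  classical
  rw [MvPowerSeries.coeff_prod]
  simp only [coeff_geo, Finset.prod_boole, Finset.mem_univ, forall_const]
  rw [Finset.sum_boole, Nat.cast_inj, ← Nat.card_eq_finsetCard]
  refine Nat.card_congr
    { toFun := fun l => ⟨fun i => l.1 i (Sum.inl (p i).1), ?_⟩
      invFun := fun M => ⟨Finsupp.equivFunOnFinite.symm (fun i => (M : ι → ℕ) i • pairExp (p i)), ?_⟩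
      left_inv := ?_
      right_inv := ?_ }
  · obtain ⟨l, hl⟩ := l
    rw [Finset.mem_filter, Finset.mem_finsuppAntidiag] at hl
    conv_rhs => rw [← hl.1.1]
    refine Finset.sum_congr rfl fun i _ => ?_
    obtain ⟨a, ha⟩ := hl.2 i
    simp only [ha, Finsupp.smul_apply, pairExp_inl, smul_eq_mul, mul_one]
  · rw [Finset.mem_filter, Finset.mem_finsuppAntidiag]
    refine ⟨⟨?_, Finset.subset_univ _⟩, fun i => ⟨(M : ι → ℕ) i, ?_⟩⟩
    · simpa using M.2
    · simp
  · rintro ⟨l, hl⟩
    rw [Finset.mem_filter] at hl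
    apply Subtype.ext
    apply Finsupp.ext
    intro i
    obtain ⟨a, ha⟩ := hl.2 i
    simp only [Finsupp.coe_equivFunOnFinite_symm, ha, Finsupp.smul_apply, pairExp_inl, smul_eq_mul,
      mul_one]
  · rintro ⟨M, hM⟩
    apply Subtype.ext
    funext i
    simp [pairExp_inl]

theorem expo_inl (r c : Fin n → ℕ) (i : Fin n) : expo r c (Sum.inl i) = r i := by simp [expo]

theorem expo_inr (r c : Fin n → ℕ) (i : Fin n) : expo r c (Sum.inr i) = c i := by simp [expo]

theorem sum_pairExp_eq_expo_iff {ι : Type*} [Fintype ι] (p : ι → Fin n × Fin n) (M : ι → ℕ)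
    (r c : Fin n → ℕ) :
    ∑ i, M i • pairExp (p i) = expo r c ↔
      (∀ a, ∑ i, (if (p i).1 = a then M i else 0) = r a) ∧
        (∀ b, ∑ i, (if (p i).2 = b then M i else 0) = c b) := by
  classical
  rw [Finsupp.ext_iff]
  simp only [Finsupp.finsetSum_apply, Finsupp.smul_apply, pairExp, Finsupp.add_apply, smul_eq_mul]
  constructor
  · intro h
    refine ⟨fun a => ?_, fun b => ?_⟩
    · rw [← expo_inl r c a, ← h (Sum.inl a)]
      refine Finset.sum_congr rfl fun i _ => ?_
      simp [Finsupp.single_apply]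
    · rw [← expo_inr r c b, ← h (Sum.inr b)]
      refine Finset.sum_congr rfl fun i _ => ?_
      simp [Finsupp.single_apply]
  · rintro ⟨h1, h2⟩ (a | b)
    · rw [expo_inl, ← h1 a]
      refine Finset.sum_congr rfl fun i _ => ?_
      simp [Finsupp.single_apply]
    · rw [expo_inr, ← h2 b]
      refine Finset.sum_congr rfl fun i _ => ?_
      simp [Finsupp.single_apply]

theorem coeff_prod_all (r c : Fin n → ℕ) :
    MvPowerSeries.coeff (expo r c) (∏ i, ∏ j, geo (i, j)) = (Nat.card (Table r c) : ℤ) := by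
  classical
  rw [← Fintype.prod_prod_type (f := fun q : Fin n × Fin n => geo q), coeff_prod_geo, Nat.cast_inj]
  refine Nat.card_congr ((Equiv.curry (Fin n) (Fin n) ℕ).subtypeEquiv fun M => ?_)
  rw [sum_pairExp_eq_expo_iff]
  simp only [Fintype.sum_prod_type, Equiv.curry_apply, Function.curry_apply]
  refine and_congr (forall_congr' fun a => ?_) (forall_congr' fun b => ?_)
  · rw [Fintype.sum_eq_single a (fun i hi => by simp [hi])]
    simp
  · simp

theorem coeff_prod_perm (σ : Equiv.Perm (Fin n)) (r c : Fin n → ℕ) :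
    MvPowerSeries.coeff (expo r c) (∏ i, geo (σ i, i)) = if r ∘ σ = c then (1 : ℤ) else 0 := by
  classical
  rw [coeff_prod_geo]
  have key : ∀ M : Fin n → ℕ, ∑ i, M i • pairExp (σ i, i) = expo r c ↔ M = c ∧ r ∘ σ = c := by
    intro M
    rw [sum_pairExp_eq_expo_iff]
    have h1 : ∀ a, ∑ i, (if σ i = a then M i else 0) = M (σ.symm a) := fun a => by
      rw [Fintype.sum_eq_single (σ.symm a) (fun i hi => by
        rw [if_neg]; intro h; exact hi (by rw [← h, Equiv.symm_apply_apply]))]
      simp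
    simp only [h1, Finset.sum_ite_eq', Finset.mem_univ, if_true]
    constructor
    · rintro ⟨hr, hc⟩
      refine ⟨funext hc, funext fun i => ?_⟩
      rw [Function.comp_apply, ← hr (σ i), Equiv.symm_apply_apply, hc]
    · rintro ⟨rfl, hr⟩
      refine ⟨fun a => ?_, fun _ => rfl⟩
      rw [← hr]; simp
  by_cases h : r ∘ σ = c
  · rw [if_pos h]
    have : Nat.card {M : Fin n → ℕ // ∑ i, M i • pairExp (σ i, i) = expo r c} = 1 := by
      rw [Nat.card_eq_one_iff_unique]
      exact ⟨⟨fun a b => Subtype.ext (((key _).1 a.2).1.trans ((key _).1 b.2).1.symm)⟩,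
        ⟨⟨c, (key c).2 ⟨rfl, h⟩⟩⟩⟩
    exact_mod_cast this
  · rw [if_neg h]
    have : IsEmpty {M : Fin n → ℕ // ∑ i, M i • pairExp (σ i, i) = expo r c} :=
      ⟨fun M => h ((key _).1 M.2).2⟩
    simp

/-- `∏_{k ∈ s} (1 - y_k T)` -/
noncomputable def opoly {R : Type*} [CommRing R] (y : Fin n → R) (s : Finset (Fin n)) : Polynomial R :=
  ∏ k ∈ s, (1 - Polynomial.C (y k) * Polynomial.X)

theorem natDegree_opoly_le {R : Type*} [CommRing R] (y : Fin n → R) (s : Finset (Fin n)) :
    (opoly y s).natDegree ≤ s.card := by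
  refine le_trans (Polynomial.natDegree_prod_le _ _) ?_
  refine le_trans (Finset.sum_le_card_nsmul _ _ 1 fun k _ => ?_) (by simp)
  refine le_trans (Polynomial.natDegree_sub_le _ _) ?_
  simp only [Polynomial.natDegree_one, zero_le, sup_of_le_right]
  exact le_trans (Polynomial.natDegree_C_mul_le _ _) Polynomial.natDegree_X_le

theorem sum_coeff_opoly {R : Type*} [CommRing R] (y : Fin n → R) (z : R) :
    ∀ (s : Finset (Fin n)) (N : ℕ), s.card ≤ N →
      ∑ m ∈ range (N + 1), (opoly y s).coeff m * z ^ (N - m) =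
        z ^ (N - s.card) * ∏ k ∈ s, (z - y k) := by
  intro s
  induction s using Finset.induction_on with
  | empty =>
    intro N _
    rw [Finset.sum_eq_single 0]
    · simp [opoly]
    · intro b _ hb; simp [opoly, Polynomial.coeff_one, hb]
    · simp
  | insert a s ha ih =>
    intro N hN
    rw [Finset.card_insert_of_notMem ha] at hN ⊢
    obtain ⟨N, rfl⟩ : ∃ N', N = N' + 1 := ⟨N - 1, by omega⟩
    have hs : s.card ≤ N := by omega
    rw [Finset.prod_insert ha]
    have hop : opoly y (insert a s) = (1 - Polynomial.C (y a) * Polynomial.X) * opoly y s := by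
      rw [opoly, Finset.prod_insert ha, opoly]
    rw [hop]
    simp only [sub_mul, one_mul, Polynomial.coeff_sub, mul_assoc, Polynomial.coeff_C_mul]
    rw [Finset.sum_sub_distrib, ih (N + 1) (by omega), Finset.sum_range_succ']
    simp only [Polynomial.coeff_X_mul, Polynomial.coeff_X_mul_zero, mul_zero, zero_mul, add_zero]
    have : ∑ m ∈ range (N + 1), y a * ((opoly y s).coeff m * z ^ (N + 1 - (m + 1))) =
        y a * (z ^ (N - s.card) * ∏ k ∈ s, (z - y k)) := by
      rw [← ih N hs, Finset.mul_sum]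
      refine Finset.sum_congr rfl fun m _ => ?_
      rw [show N + 1 - (m + 1) = N - m by omega]
    rw [this, show N + 1 - s.card = N - s.card + 1 by omega, pow_succ,
      show N + 1 - (s.card + 1) = N - s.card by omega]
    ring

theorem det_coeff_opoly {R : Type*} [CommRing R] [IsDomain R] (y : Fin n → R)
    (hy : Function.Injective y) :
    (Matrix.of fun m j : Fin n => (opoly y (Finset.univ.erase j)).coeff m).det =
      (Matrix.vandermonde y).det := by
  rcases n with _ | n
  · simp
  set Cm := Matrix.of fun m j : Fin (n + 1) => (opoly y (Finset.univ.erase j)).coeff m with hC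
  set W := Matrix.projVandermonde (fun _ : Fin (n + 1) => (1 : R)) y with hW
  have hWC : W * Cm = Matrix.diagonal fun i => ∏ k ∈ Finset.univ.erase i, (y i - y k) := by
    ext i j
    rw [Matrix.mul_apply]
    have h := sum_coeff_opoly y (y i) (Finset.univ.erase j) n (by simp)
    rw [Finset.card_erase_of_mem (Finset.mem_univ j), Finset.card_univ, Fintype.card_fin,
      show n - (n + 1 - 1) = 0 by omega, pow_zero, one_mul, ← Fin.sum_univ_eq_sum_range
      (fun m => (opoly y (Finset.univ.erase j)).coeff m * y i ^ (n - m))] at h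
    rw [Matrix.diagonal_apply]
    have h' : ∑ x, W i x * Cm x j = ∏ k ∈ Finset.univ.erase j, (y i - y k) := by
      rw [← h]
      refine Finset.sum_congr rfl fun m _ => ?_
      simp [hW, hC, Matrix.projVandermonde_apply, Fin.val_rev, mul_comm]
    rw [h']
    split
    · next hij => subst hij; rfl
    · next hij => exact Finset.prod_eq_zero (Finset.mem_erase.2 ⟨hij, Finset.mem_univ _⟩) (sub_self _)
  have hWdet : W.det = ∏ i : Fin (n + 1), ∏ j ∈ Finset.Ioi i, (y i - y j) := by
    rw [hW, Matrix.det_projVandermonde]; simp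
  have hW0 : W.det ≠ 0 := by
    rw [hWdet]
    refine Finset.prod_ne_zero_iff.2 fun i _ => Finset.prod_ne_zero_iff.2 fun j hj => ?_
    exact sub_ne_zero.2 fun h => (Finset.mem_Ioi.1 hj).ne (hy h)
  have hsplit : ∏ i : Fin (n + 1), ∏ k ∈ Finset.univ.erase i, (y i - y k) =
      (∏ i : Fin (n + 1), ∏ j ∈ Finset.Ioi i, (y i - y j)) * (Matrix.vandermonde y).det := by
    have : ∀ i : Fin (n + 1), ∏ k ∈ Finset.univ.erase i, (y i - y k) =
        (∏ k ∈ Finset.Ioi i, (y i - y k)) * ∏ k ∈ Finset.Iio i, (y i - y k) := by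
      intro i
      rw [← Finset.prod_union (Finset.disjoint_left.2 fun a h1 h2 =>
        lt_asymm (Finset.mem_Ioi.1 h1) (Finset.mem_Iio.1 h2))]
      congr 1
      ext a
      simp [lt_or_lt_iff_ne, ne_comm]
    rw [Finset.prod_congr rfl fun i _ => this i, Finset.prod_mul_distrib, Matrix.det_vandermonde]
    congr 1
    rw [Finset.prod_comm' (t' := Finset.univ) (s' := fun k => Finset.Ioi k)
      (fun i k => by simp)]
  have hdet := congrArg Matrix.det hWC
  rw [Matrix.det_mul, Matrix.det_diagonal, hsplit, ← hWdet] at hdet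
  exact mul_left_cancel₀ hW0 hdet

theorem isDomain_mvPowerSeries : IsDomain (MvPowerSeries (Fin n ⊕ Fin n) ℤ) :=
  NoZeroDivisors.to_isDomain _

theorem det_geo :
    (Matrix.of fun i j : Fin n => geo (i, j)).det =
      (Matrix.vandermonde (xv (n := n))).det * (Matrix.vandermonde (yv (n := n))).det *
        ∏ i, ∏ j, geo (i, j) := by
  haveI := isDomain_mvPowerSeries (n := n)
  have hyinj : Function.Injective (yv (n := n)) := fun a b h => by
    simpa using MvPowerSeries.X_inj.1 h
  set M := Matrix.of fun i j : Fin n => (∏ k, (1 - xv i * yv k)) * geo (i, j) with hMdef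
  have hM1 : M.det = (∏ i, ∏ k, (1 - xv i * yv k)) * (Matrix.of fun i j : Fin n => geo (i, j)).det := by
    rw [hMdef]
    exact Matrix.det_mul_column (fun i => ∏ k, (1 - xv i * yv k)) (Matrix.of fun i j : Fin n => geo (i, j))
  have hM2 : M = Matrix.vandermonde (xv (n := n)) *
      Matrix.of fun m j : Fin n => (opoly yv (Finset.univ.erase j)).coeff m := by
    refine Matrix.ext fun i j => ?_
    rw [hMdef, Matrix.mul_apply, Matrix.of_apply, ← Finset.mul_prod_erase _ _ (Finset.mem_univ j),
      mul_comm (1 - xv i * yv j), mul_assoc, mul_comm (1 - xv i * yv j), geo_mul (i, j), mul_one]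
    have hdeg : (opoly (yv (n := n)) (Finset.univ.erase j)).natDegree < n :=
      lt_of_le_of_lt (natDegree_opoly_le _ _) (by
        rw [Finset.card_erase_of_mem (Finset.mem_univ j)]; simp; exact j.pos)
    have he := Polynomial.eval_eq_sum_range' hdeg (xv i)
    rw [← Fin.sum_univ_eq_sum_range
      (fun m => (opoly (yv (n := n)) (Finset.univ.erase j)).coeff m * xv i ^ m)] at he
    simp only [opoly, Polynomial.eval_prod, Polynomial.eval_sub, Polynomial.eval_one,
      Polynomial.eval_mul, Polynomial.eval_C, Polynomial.eval_X] at he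
    simp only [opoly, Matrix.vandermonde_apply, Matrix.of_apply, mul_comm (xv i)] at he ⊢
    rw [he]
    exact Finset.sum_congr rfl fun m _ => mul_comm _ _
  rw [hM2, Matrix.det_mul, det_coeff_opoly _ hyinj] at hM1
  rw [hM1, mul_comm (∏ i, ∏ k, (1 - xv i * yv k)), mul_assoc, ← Finset.prod_mul_distrib,
    Finset.prod_eq_one, mul_one]
  intro i _
  rw [← Finset.prod_mul_distrib, Finset.prod_eq_one]
  intro k _
  rw [mul_comm]
  exact geo_mul (i, k)

theorem prod_monomial_one {ι σ : Type*} (s : Finset ι) (e : ι → σ →₀ ℕ) :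
    ∏ i ∈ s, MvPowerSeries.monomial (e i) (1 : ℤ) = MvPowerSeries.monomial (∑ i ∈ s, e i) 1 := by
  classical
  induction s using Finset.induction_on with
  | empty => simp [MvPowerSeries.monomial_zero_one]
  | insert a s ha ih =>
    rw [Finset.prod_insert ha, ih, Finset.sum_insert ha, MvPowerSeries.monomial_mul_monomial, mul_one]

theorem vandermonde_det_eq (v : Fin n → MvPowerSeries (Fin n ⊕ Fin n) ℤ) :
    (Matrix.vandermonde v).det =
      ∑ κ : Equiv.Perm (Fin n), ((Equiv.Perm.sign κ : ℤ) : MvPowerSeries (Fin n ⊕ Fin n) ℤ) *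
        ∏ i, v i ^ (κ i : ℕ) := by
  rw [← Matrix.det_transpose, Matrix.det_apply']
  simp [Matrix.vandermonde_apply]

theorem prod_pow_eq_monomial (κ κ' : Equiv.Perm (Fin n)) :
    (∏ i, xv i ^ (κ i : ℕ)) * (∏ i, yv i ^ (κ' i : ℕ)) =
      MvPowerSeries.monomial (expo (fun i => (κ i : ℕ)) (fun i => (κ' i : ℕ))) (1 : ℤ) := by
  simp only [xv, yv, MvPowerSeries.X_pow_eq]
  rw [prod_monomial_one, prod_monomial_one, MvPowerSeries.monomial_mul_monomial, mul_one]
  refine congrArg (fun e => MvPowerSeries.monomial e (1 : ℤ)) ?_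
  ext (a | b)
  · simp [expo_inl, Finsupp.single_apply, Finsupp.finsetSum_apply]
  · simp [expo_inr, Finsupp.single_apply, Finsupp.finsetSum_apply]

theorem expo_le_iff (a b r c : Fin n → ℕ) :
    expo a b ≤ expo r c ↔ (∀ i, a i ≤ r i) ∧ (∀ i, b i ≤ c i) := by
  constructor
  · intro h
    exact ⟨fun i => by simpa [expo_inl] using h (Sum.inl i),
      fun i => by simpa [expo_inr] using h (Sum.inr i)⟩
  · rintro ⟨h1, h2⟩ (i | i)
    · simpa [expo_inl] using h1 i
    · simpa [expo_inr] using h2 i

theorem expo_sub (a b r c : Fin n → ℕ) :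
    expo r c - expo a b = expo (fun i => r i - a i) (fun i => c i - b i) := by
  ext (i | i) <;> simp [expo_inl, expo_inr]

theorem perm_eq_one_of_strictMono_comp {l : Fin n → ℕ} {σ : Equiv.Perm (Fin n)}
    (hl : StrictMono l) (h : StrictMono (l ∘ σ)) : σ = 1 := by
  have hσ : StrictMono σ := fun a b hab => hl.lt_iff_lt.1 (h hab)
  have hr := StrictMono.range_inj (f := (σ : Fin n → Fin n)) (g := id) hσ strictMono_id
  have := hr.1 (by simp)
  exact Equiv.ext fun i => congrFun this i

open Classical in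
/-- The signed count of tables with margins `l - κ`, `l' - κ'` is `δ(l, l')`. -/
theorem alternating_table_count (l l' : Fin n → ℕ) (hl : StrictMono l) (hl' : StrictMono l') :
    ∑ κ : Equiv.Perm (Fin n), ∑ κ' : Equiv.Perm (Fin n),
      (if (∀ i, (κ i : ℕ) ≤ l i) ∧ (∀ i, (κ' i : ℕ) ≤ l' i) then
        (Equiv.Perm.sign κ : ℤ) * (Equiv.Perm.sign κ' : ℤ) *
          (Nat.card (Table (fun i => l i - (κ i : ℕ)) (fun i => l' i - (κ' i : ℕ))) : ℤ)
      else 0) = if l = l' then 1 else 0 := by
  have h := congrArg (MvPowerSeries.coeff (expo l l')) (det_geo (n := n))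
  rw [Matrix.det_apply'] at h
  rw [vandermonde_det_eq, vandermonde_det_eq, Finset.sum_mul_sum, Finset.sum_mul] at h
  simp only [map_sum, Matrix.of_apply] at h
  have lhs : ∑ σ : Equiv.Perm (Fin n),
      MvPowerSeries.coeff (expo l l')
        (((Equiv.Perm.sign σ : ℤ) : MvPowerSeries (Fin n ⊕ Fin n) ℤ) * ∏ i, geo (σ i, i)) =
      if l = l' then 1 else 0 := by
    rw [Fintype.sum_eq_single 1]
    · rw [← zsmul_eq_mul, map_zsmul, coeff_prod_perm]
      simp
    · intro σ hσ
      rw [← zsmul_eq_mul, map_zsmul, coeff_prod_perm, if_neg, smul_zero]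
      intro h'
      exact hσ (perm_eq_one_of_strictMono_comp hl (h' ▸ hl'))
  rw [lhs] at h
  rw [h]
  refine Finset.sum_congr rfl fun κ _ => ?_
  rw [Finset.sum_mul, map_sum]
  refine Finset.sum_congr rfl fun κ' _ => ?_
  rw [mul_mul_mul_comm, prod_pow_eq_monomial, ← Int.cast_mul, ← zsmul_eq_mul, smul_mul_assoc,
    map_zsmul, MvPowerSeries.coeff_monomial_mul]
  simp only [expo_le_iff, expo_sub, coeff_prod_all, one_mul, smul_eq_mul, mul_ite, mul_zero]

end Cauchy

end Cfsg.Agent.Lib.GLFlags
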