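import Mathlib
import Cfsg.Prelude.Def_LinearParabolics
import Cfsg.Agent.Lib.GLFlags.Bruhat
import Cfsg.Agent.Lib.GLFlags.Cauchy

set_option autoImplicit false

/-!
Double cosets of standard parabolic subgroups of `GL n F`, of Young subgroups, and contingency
tables; inner products of coset permutation characters.
-/

namespace Cfsg.Agent.Lib.GLFlags

open scoped MatrixGroups
open Matrix Finset

section Burnside

variable {G : Type*} [Group G]

/-- orbits on pairs of cosets are double cosets -/
theorem nonempty_doubleCoset_equiv_orbits (H K : Subgroup G) :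
    Nonempty (DoubleCoset.Quotient (H : Set G) (K : Set G) ≃
      MulAction.orbitRel.Quotient G ((G ⧸ H) × (G ⧸ K))) := by
  let f : DoubleCoset.Quotient (H : Set G) (K : Set G) →
      MulAction.orbitRel.Quotient G ((G ⧸ H) × (G ⧸ K)) :=
    Quotient.lift (fun x => Quotient.mk'' ((QuotientGroup.mk (1 : G) : G ⧸ H), (QuotientGroup.mk x : G ⧸ K)))
      (by
        intro a b hab
        obtain ⟨h, hh, k, hk, rfl⟩ := (DoubleCoset.rel_iff).1 hab
        apply Quotient.sound'
        show _ ∈ MulAction.orbit G _
        refine ⟨h⁻¹, ?_⟩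
        simp only [Prod.smul_mk, MulAction.Quotient.smul_mk, smul_eq_mul, Prod.mk.injEq,
          QuotientGroup.eq]
        exact ⟨by simpa using hh, by simpa [mul_assoc] using inv_mem hk⟩)
  refine ⟨Equiv.ofBijective f ⟨?_, ?_⟩⟩
  · intro a b
    induction a using Quotient.inductionOn' with | _ x => ?_
    induction b using Quotient.inductionOn' with | _ y => ?_
    intro he
    obtain ⟨g, hg⟩ : ((QuotientGroup.mk (1 : G) : G ⧸ H), (QuotientGroup.mk x : G ⧸ K)) ∈
        MulAction.orbit G ((QuotientGroup.mk (1 : G) : G ⧸ H), (QuotientGroup.mk y : G ⧸ K)) :=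
      Quotient.exact' he
    simp only [Prod.smul_mk, MulAction.Quotient.smul_mk, smul_eq_mul, Prod.mk.injEq,
      QuotientGroup.eq] at hg
    apply Quotient.sound'
    refine (DoubleCoset.rel_iff).2 ⟨g⁻¹, by simpa using hg.1, ((g * y)⁻¹ * x)⁻¹, inv_mem hg.2, ?_⟩
    group
  · intro q
    induction q using Quotient.inductionOn' with | _ p => ?_
    obtain ⟨p1, p2⟩ := p
    induction p1 using QuotientGroup.induction_on with | _ u => ?_
    induction p2 using QuotientGroup.induction_on with | _ v => ?_
    refine ⟨Quotient.mk'' (u⁻¹ * v), ?_⟩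
    apply Quotient.sound'
    show _ ∈ MulAction.orbit G _
    refine ⟨u⁻¹, ?_⟩
    simp [MulAction.Quotient.smul_mk]

/-- The inner product of two coset permutation characters counts double cosets. -/
theorem sum_fixedPointCharacter_mul [Fintype G] (H K : Subgroup G) :
    (Nat.card G : ℂ)⁻¹ * ∑ g : G, fixedPointCharacter H g * fixedPointCharacter K g =
      (Nat.card (DoubleCoset.Quotient (H : Set G) (K : Set G)) : ℂ) := by
  classical
  obtain ⟨e⟩ := nonempty_doubleCoset_equiv_orbits H K
  have hb := MulAction.sum_card_fixedBy_eq_card_orbits_mul_card_group G ((G ⧸ H) × (G ⧸ K))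
  have hfix : ∀ g : G, fixedPointCharacter H g * fixedPointCharacter K g =
      (Fintype.card (MulAction.fixedBy ((G ⧸ H) × (G ⧸ K)) g) : ℂ) := by
    intro g
    rw [← Nat.card_eq_fintype_card, fixedPointCharacter, fixedPointCharacter, ← Nat.cast_mul,
      ← Nat.card_prod]
    congr 1
    refine Nat.card_congr
      { toFun := fun p => ⟨(p.1.1, p.2.1), Prod.ext p.1.2 p.2.2⟩
        invFun := fun p => (⟨p.1.1, congrArg Prod.fst p.2⟩, ⟨p.1.2, congrArg Prod.snd p.2⟩)
        left_inv := fun p => rfl
        right_inv := fun p => rfl }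
  rw [Finset.sum_congr rfl fun g _ => hfix g, ← Nat.cast_sum, hb, Nat.card_congr e,
    Nat.card_eq_fintype_card (α := MulAction.orbitRel.Quotient G ((G ⧸ H) × (G ⧸ K))),
    Nat.card_eq_fintype_card (α := G), Nat.cast_mul]
  have hne : (Fintype.card G : ℂ) ≠ 0 := by exact_mod_cast Fintype.card_ne_zero
  field_simp

end Burnside

section Labels

variable {n : ℕ}

/-- `μ_0 + ⋯ + μ_{j-1}` -/
def below (μ : Fin n → ℕ) (j : Fin n) : ℕ := ∑ k ∈ Finset.Iio j, μ k

theorem sum_le_eq (μ : Fin n → ℕ) (j : Fin n) :
    ∑ k ∈ Finset.univ.filter (fun k : Fin n => k ≤ j), μ k = below μ j + μ j := by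
  have : Finset.univ.filter (fun k : Fin n => k ≤ j) = insert j (Finset.Iio j) := by
    ext k; simp [le_iff_lt_or_eq, or_comm]
  rw [this, Finset.sum_insert (by simp), below, add_comm]

theorem compLabel_mono (μ : Fin n → ℕ) {i i' : Fin n} (h : i ≤ i') :
    compLabel μ i ≤ compLabel μ i' := by
  refine Finset.card_le_card fun j hj => ?_
  simp only [Finset.mem_filter, Finset.mem_univ, true_and] at hj ⊢
  have : i.val ≤ i'.val := h
  omega

theorem below_add_le_below (μ : Fin n → ℕ) {j k : Fin n} (h : j < k) :
    below μ j + μ j ≤ below μ k := by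
  rw [below, below, add_comm, ← Finset.sum_insert (f := μ) (show j ∉ Finset.Iio j by simp)]
  refine Finset.sum_le_sum_of_subset fun x hx => ?_
  simp only [Finset.mem_insert, Finset.mem_Iio] at hx ⊢
  rcases hx with rfl | hx
  · exact h
  · exact lt_trans hx h

theorem lt_compLabel_iff (μ : Fin n → ℕ) (i j : Fin n) :
    j.val < compLabel μ i ↔ below μ j + μ j ≤ i.val := by
  have hdown : ∀ a b : Fin n, a ≤ b → below μ b + μ b ≤ i.val → below μ a + μ a ≤ i.val := by
    intro a b hab hb
    rcases eq_or_lt_of_le hab with rfl | h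
    · exact hb
    · have := below_add_le_below μ h; omega
  unfold compLabel
  simp only [sum_le_eq]
  constructor
  · intro h
    by_contra hj
    have : (Finset.univ.filter fun k : Fin n => below μ k + μ k ≤ i.val) ⊆ Finset.Iio j := by
      intro k hk
      simp only [Finset.mem_filter, Finset.mem_univ, true_and] at hk
      rw [Finset.mem_Iio]
      by_contra hk'
      exact hj (hdown j k (not_lt.1 hk') hk)
    have := Finset.card_le_card this
    rw [Fin.card_Iio] at this
    omega
  · intro h
    have : Finset.Iic j ⊆ Finset.univ.filter fun k : Fin n => below μ k + μ k ≤ i.val := by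
      intro k hk
      simp only [Finset.mem_filter, Finset.mem_univ, true_and]
      exact hdown k j (Finset.mem_Iic.1 hk) h
    have := Finset.card_le_card this
    rw [Fin.card_Iic] at this
    omega

theorem compLabel_eq_iff (μ : Fin n → ℕ) (i j : Fin n) :
    compLabel μ i = j.val ↔ below μ j ≤ i.val ∧ i.val < below μ j + μ j := by
  constructor
  · intro h
    refine ⟨?_, ?_⟩
    · rcases Nat.eq_zero_or_pos j.val with hj | hj
      · have : Finset.Iio j = ∅ := by
          ext k; simp only [Finset.mem_Iio, Finset.notMem_empty, iff_false, not_lt]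
          show j.val ≤ k.val; omega
        simp [below, this]
      · have hp : (⟨j.val - 1, by omega⟩ : Fin n).val < compLabel μ i := by
          show j.val - 1 < compLabel μ i
          omega
        have h1 := (lt_compLabel_iff μ i _).1 hp
        have : Finset.Iio j = insert (⟨j.val - 1, by omega⟩ : Fin n) (Finset.Iio ⟨j.val - 1, by omega⟩) := by
          ext k
          simp only [Finset.mem_insert, Finset.mem_Iio, Fin.ext_iff, Fin.lt_def]
          omega
        rw [below, this, Finset.sum_insert (by simp), add_comm]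
        exact h1
    · by_contra hc
      have := (lt_compLabel_iff μ i j).2 (not_lt.1 hc)
      omega
  · rintro ⟨h1, h2⟩
    apply le_antisymm
    · by_contra hc
      have := (lt_compLabel_iff μ i j).1 (not_le.1 hc)
      omega
    · rcases Nat.eq_zero_or_pos j.val with hj | hj
      · omega
      · have hlt : (⟨j.val - 1, by omega⟩ : Fin n) < j := by
          show j.val - 1 < j.val
          omega
        have := (lt_compLabel_iff μ i _).2 (le_trans (below_add_le_below μ hlt) h1)
        simp only at this
        omega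

theorem compLabel_lt {μ : Fin n → ℕ} (hμ : ∑ k, μ k = n) (i : Fin n) : compLabel μ i < n := by
  by_contra hc
  have hlast : (⟨n - 1, by have := i.isLt; omega⟩ : Fin n).val < compLabel μ i := by
    show n - 1 < compLabel μ i
    have := i.isLt; omega
  have h := (lt_compLabel_iff μ i _).1 hlast
  rw [← sum_le_eq] at h
  have hall : Finset.univ.filter (fun k : Fin n => k ≤ ⟨n - 1, by have := i.isLt; omega⟩) = Finset.univ :=
    Finset.filter_true_of_mem fun k _ => by
      show k.val ≤ n - 1
      have := k.isLt; omega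
  rw [hall, hμ] at h
  have := i.isLt
  omega

theorem card_fibre {μ : Fin n → ℕ} (hμ : ∑ k, μ k = n) (j : Fin n) :
    Nat.card {i : Fin n // compLabel μ i = j.val} = μ j := by
  classical
  have hS : below μ j + μ j ≤ n := by
    rw [← sum_le_eq]
    conv_rhs => rw [← hμ]
    exact Finset.sum_le_sum_of_subset (Finset.subset_univ _)
  let e : {i : Fin n // compLabel μ i = j.val} ≃ Fin (μ j) :=
    { toFun := fun i => ⟨i.1.val - below μ j,
        Nat.sub_lt_left_of_lt_add ((compLabel_eq_iff μ i.1 j).1 i.2).1 ((compLabel_eq_iff μ i.1 j).1 i.2).2⟩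
      invFun := fun k => ⟨⟨below μ j + k.val,
          lt_of_lt_of_le (Nat.add_lt_add_left k.isLt _) hS⟩,
        (compLabel_eq_iff μ _ j).2 ⟨Nat.le_add_right _ _, Nat.add_lt_add_left k.isLt _⟩⟩
      left_inv := fun i => Subtype.ext (Fin.ext
        (Nat.add_sub_cancel' ((compLabel_eq_iff μ i.1 j).1 i.2).1))
      right_inv := fun k => Fin.ext (Nat.add_sub_cancel_left _ _) }
  exact (Nat.card_congr e).trans (Nat.card_fin _)

end Labels

section DoubleCosets

variable {n : ℕ} {F : Type*} [Field F]

theorem mem_parabolicGL_iff (μ : Fin n → ℕ) (g : GL (Fin n) F) :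
    g ∈ parabolicGL n F μ ↔ ∀ i j, compLabel μ j < compLabel μ i → g.val i j = 0 :=
  Iff.rfl

theorem upperTriangularGL_le_parabolicGL (μ : Fin n → ℕ) :
    upperTriangularGL n F ≤ parabolicGL n F μ := by
  intro g hg
  rw [mem_parabolicGL_iff]
  intro i j hij
  refine (mem_upperTriangularGL_iff g).1 hg i j ?_
  by_contra hle
  exact absurd (compLabel_mono μ (not_lt.1 hle)) (not_le.2 hij)

theorem mem_youngSubgroup_iff (μ : Fin n → ℕ) (w : Equiv.Perm (Fin n)) :
    w ∈ youngSubgroup μ ↔ ∀ i, compLabel μ (w i) = compLabel μ i :=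
  Iff.rfl

theorem permGL_mem_parabolicGL {μ : Fin n → ℕ} {w : Equiv.Perm (Fin n)} (h : w ∈ youngSubgroup μ) :
    (permGL w : GL (Fin n) F) ∈ parabolicGL n F μ := by
  rw [mem_parabolicGL_iff]
  intro i j hij
  rw [permGL_apply, if_neg]
  rintro rfl
  rw [(mem_youngSubgroup_iff μ w).1 h j] at hij
  exact lt_irrefl _ hij

/-- vectors supported on labels `≤ j` whose image is supported on labels `< i` -/
def invSet (μ ν : Fin n → ℕ) (g : GL (Fin n) F) (i j : ℕ) : Set (Fin n → F) :=
  {v | ∀ k, (j < compLabel ν k → v k = 0) ∧ (i ≤ compLabel μ k → (g.val *ᵥ v) k = 0)}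

theorem mulVec_supported {μ : Fin n → ℕ} {p : GL (Fin n) F} (hp : p ∈ parabolicGL n F μ) {i : ℕ}
    {v : Fin n → F} (hv : ∀ k, i ≤ compLabel μ k → v k = 0) :
    ∀ k, i ≤ compLabel μ k → (p.val *ᵥ v) k = 0 := by
  intro k hk
  rw [Matrix.mulVec, dotProduct]
  refine Finset.sum_eq_zero fun s _ => ?_
  by_cases hs : compLabel μ s < compLabel μ k
  · rw [(mem_parabolicGL_iff μ p).1 hp k s hs, zero_mul]
  · rw [hv s (by omega), mul_zero]

theorem mapsTo_invSet {μ ν : Fin n → ℕ} {p q : GL (Fin n) F} (hp : p ∈ parabolicGL n F μ)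
    (hq : q ∈ parabolicGL n F ν) (g : GL (Fin n) F) (i j : ℕ) :
    Set.MapsTo (fun v => q.val *ᵥ v) (invSet μ ν (p * g * q) i j) (invSet μ ν g i j) := by
  intro v hv k
  refine ⟨fun hk => mulVec_supported hq (i := j + 1) (fun s hs => (hv s).1 hs) k hk, fun hk => ?_⟩
  have h := mulVec_supported (inv_mem hp) (v := (p * g * q).val *ᵥ v) (fun s hs => (hv s).2 hs) k hk
  rw [Matrix.mulVec_mulVec, ← Units.val_mul, show p⁻¹ * (p * g * q) = g * q by group] at h
  show (g.val *ᵥ (q.val *ᵥ v)) k = 0
  rw [Matrix.mulVec_mulVec, ← Units.val_mul]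
  exact h

theorem card_invSet_mul [Finite F] {μ ν : Fin n → ℕ} {p q : GL (Fin n) F}
    (hp : p ∈ parabolicGL n F μ) (hq : q ∈ parabolicGL n F ν) (g : GL (Fin n) F) (i j : ℕ) :
    (invSet μ ν (p * g * q) i j).ncard = (invSet μ ν g i j).ncard := by
  have inj : ∀ x : GL (Fin n) F, Function.Injective (fun v : Fin n → F => x.val *ᵥ v) :=
    fun x => Matrix.mulVec_injective_iff_isUnit.2 x.isUnit
  apply le_antisymm
  · exact Set.ncard_le_ncard_of_injOn _ (mapsTo_invSet hp hq g i j) (inj q).injOn (Set.toFinite _)
  · refine Set.ncard_le_ncard_of_injOn (fun v => (q⁻¹).val *ᵥ v) ?_ (inj q⁻¹).injOn (Set.toFinite _)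
    have h := mapsTo_invSet (inv_mem hp) (inv_mem hq) (p * g * q) i j
    rwa [show p⁻¹ * (p * g * q) * q⁻¹ = g by group] at h

open Classical in
theorem card_invSet_permGL [Fintype F] (μ ν : Fin n → ℕ) (w : Equiv.Perm (Fin n)) (i j : ℕ) :
    (invSet μ ν (permGL w : GL (Fin n) F) i j).ncard =
      Fintype.card F ^
        (Finset.univ.filter fun k => compLabel ν k ≤ j ∧ compLabel μ (w k) < i).card := by
  have hiff : ∀ v : Fin n → F, v ∈ invSet μ ν (permGL w) i j ↔
      ∀ k, ¬ (compLabel ν k ≤ j ∧ compLabel μ (w k) < i) → v k = 0 := by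
    intro v
    constructor
    · intro h k hk
      rw [not_and_or, not_le, not_lt] at hk
      rcases hk with hk | hk
      · exact (h k).1 hk
      · have := (h (w k)).2 hk
        rwa [permGL_mulVec] at this
    · intro h k
      refine ⟨fun hk => h k (fun hc => absurd hc.1 (not_le.2 hk)), fun hk => ?_⟩
      obtain ⟨m, rfl⟩ := w.surjective k
      rw [permGL_mulVec]
      exact h m (fun hc => absurd hc.2 (not_lt.2 hk))
  rw [← Fintype.card_coe, ← Fintype.card_fun, ← Nat.card_eq_fintype_card, ← Nat.card_coe_set_eq]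
  refine Nat.card_congr
    { toFun := fun v k => v.1 k.1
      invFun := fun u => ⟨fun k => if h : compLabel ν k ≤ j ∧ compLabel μ (w k) < i then
        u ⟨k, by simp [h]⟩ else 0, (hiff _).2 fun k hk => dif_neg hk⟩
      left_inv := fun v => by
        apply Subtype.ext
        funext k
        simp only
        split
        · rfl
        · next hk => exact ((hiff v.1).1 v.2 k hk).symm
      right_inv := fun u => by
        funext k
        obtain ⟨k, hk⟩ := k
        simp only [Finset.mem_filter, Finset.mem_univ, true_and] at hk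
        simp [hk] }

open Classical in
/-- number of `k` with prescribed labels of `k` and `w k` -/
noncomputable def labelCount (μ ν : Fin n → ℕ) (w : Equiv.Perm (Fin n)) (i j : ℕ) : ℕ :=
  (Finset.univ.filter fun k => compLabel μ (w k) = i ∧ compLabel ν k = j).card

theorem labelCount_eq_of_cum {μ ν : Fin n → ℕ} {w w' : Equiv.Perm (Fin n)}
    (h : ∀ i j, (Finset.univ.filter fun k => compLabel ν k ≤ j ∧ compLabel μ (w k) < i).card =
      (Finset.univ.filter fun k => compLabel ν k ≤ j ∧ compLabel μ (w' k) < i).card) (i j : ℕ) :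
    labelCount μ ν w i j = labelCount μ ν w' i j := by
  classical
  have split : ∀ (v : Equiv.Perm (Fin n)) (a b : ℕ),
      (Finset.univ.filter fun k => compLabel ν k ≤ b ∧ compLabel μ (v k) < a + 1).card =
        (Finset.univ.filter fun k => compLabel ν k ≤ b ∧ compLabel μ (v k) < a).card +
        (Finset.univ.filter fun k => compLabel ν k ≤ b ∧ compLabel μ (v k) = a).card := by
    intro v a b
    rw [← Finset.card_union_of_disjoint]
    · congr 1; ext k; simp; omega
    · rw [Finset.disjoint_filter]; intro k _ h1 h2; omega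
  have h1 : ∀ b, (Finset.univ.filter fun k => compLabel ν k ≤ b ∧ compLabel μ (w k) = i).card =
      (Finset.univ.filter fun k => compLabel ν k ≤ b ∧ compLabel μ (w' k) = i).card := by
    intro b
    have e1 := split w i b
    have e2 := split w' i b
    have e3 := h i b
    have e4 := h (i + 1) b
    omega
  rcases Nat.eq_zero_or_pos j with hj | hj
  · subst hj
    have := h1 0
    simp only [Nat.le_zero] at this
    simpa only [labelCount, and_comm] using this
  · have split2 : ∀ (v : Equiv.Perm (Fin n)),
        (Finset.univ.filter fun k => compLabel ν k ≤ j ∧ compLabel μ (v k) = i).card =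
          (Finset.univ.filter fun k => compLabel ν k ≤ j - 1 ∧ compLabel μ (v k) = i).card +
          labelCount μ ν v i j := by
      intro v
      rw [labelCount, ← Finset.card_union_of_disjoint]
      · congr 1; ext k; simp; omega
      · rw [Finset.disjoint_filter]; intro k _ h1 h2; omega
    have e1 := split2 w
    have e2 := split2 w'
    have e3 := h1 j
    have e4 := h1 (j - 1)
    omega

/-- equal label counts give the same double coset of Young subgroups -/
theorem exists_of_labelCount_eq {μ ν : Fin n → ℕ} {w w' : Equiv.Perm (Fin n)}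
    (h : ∀ i j, labelCount μ ν w i j = labelCount μ ν w' i j) :
    ∃ s ∈ youngSubgroup μ, ∃ t ∈ youngSubgroup ν, w' = s * w * t := by
  classical
  let f : Fin n → ℕ × ℕ := fun k => (compLabel μ (w' k), compLabel ν k)
  let g : Fin n → ℕ × ℕ := fun k => (compLabel μ (w k), compLabel ν k)
  have hc : ∀ c, Nonempty ({k // f k = c} ≃ {k // g k = c}) := by
    intro c
    refine ⟨Fintype.equivOfCardEq ?_⟩
    simp only [Fintype.card_subtype]
    have := (h c.1 c.2).symm
    simpa [labelCount, f, g, Prod.ext_iff] using this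
  let τ : Equiv.Perm (Fin n) := Equiv.ofFiberEquiv fun c => Classical.choice (hc c)
  have hτ : ∀ k, g (τ k) = f k := fun k => Equiv.ofFiberEquiv_map _ k
  refine ⟨w' * τ⁻¹ * w⁻¹, ?_, τ, ?_, by group⟩
  · rw [mem_youngSubgroup_iff]
    intro m
    have e := congrArg Prod.fst (hτ (τ⁻¹ (w⁻¹ m)))
    simp only [f, g] at e
    simpa [Equiv.Perm.mul_apply] using e.symm
  · rw [mem_youngSubgroup_iff]
    intro m
    exact congrArg Prod.snd (hτ m)

theorem labelCount_mul {μ ν : Fin n → ℕ} {s t : Equiv.Perm (Fin n)} (hs : s ∈ youngSubgroup μ)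
    (ht : t ∈ youngSubgroup ν) (w : Equiv.Perm (Fin n)) (i j : ℕ) :
    labelCount μ ν (s * w * t) i j = labelCount μ ν w i j := by
  classical
  unfold labelCount
  refine Finset.card_equiv t fun k => ?_
  rw [Finset.mem_filter, Finset.mem_filter]
  simp only [Finset.mem_univ, true_and, Equiv.Perm.mul_apply]
  rw [(mem_youngSubgroup_iff μ s).1 hs, (mem_youngSubgroup_iff ν t).1 ht]

theorem card_doubleCoset_young_eq_parabolic [Fintype F] (μ ν : Fin n → ℕ) :
    Nat.card (DoubleCoset.Quotient (youngSubgroup μ : Set (Equiv.Perm (Fin n)))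
        (youngSubgroup ν : Set (Equiv.Perm (Fin n)))) =
      Nat.card (DoubleCoset.Quotient (parabolicGL n F μ : Set (GL (Fin n) F))
        (parabolicGL n F ν : Set (GL (Fin n) F))) := by
  classical
  let f : DoubleCoset.Quotient (youngSubgroup μ : Set (Equiv.Perm (Fin n)))
        (youngSubgroup ν : Set (Equiv.Perm (Fin n))) →
      DoubleCoset.Quotient (parabolicGL n F μ : Set (GL (Fin n) F))
        (parabolicGL n F ν : Set (GL (Fin n) F)) :=
    Quotient.lift (fun w => DoubleCoset.mk _ _ (permGL w)) (by
      intro a b hab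
      obtain ⟨h, hh, k, hk, rfl⟩ := (DoubleCoset.rel_iff).1 hab
      refine (DoubleCoset.eq _ _ _ _).2 ⟨permGL h, permGL_mem_parabolicGL hh, permGL k,
        permGL_mem_parabolicGL hk, ?_⟩
      rw [← permGL_mul, ← permGL_mul])
  refine Nat.card_congr (Equiv.ofBijective f ⟨?_, ?_⟩)
  · intro a b
    induction a using Quotient.inductionOn' with | _ x => ?_
    induction b using Quotient.inductionOn' with | _ y => ?_
    intro he
    obtain ⟨p, hp, q, hq, hy⟩ := (DoubleCoset.eq _ _ _ _).1 he
    have hq1 : 1 < Fintype.card F := Fintype.one_lt_card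
    have hcum : ∀ i j, (Finset.univ.filter fun k => compLabel ν k ≤ j ∧ compLabel μ (x k) < i).card =
        (Finset.univ.filter fun k => compLabel ν k ≤ j ∧ compLabel μ (y k) < i).card := by
      intro i j
      apply Nat.pow_right_injective hq1
      simp only
      rw [← card_invSet_permGL (F := F) μ ν x i j, ← card_invSet_permGL (F := F) μ ν y i j, hy,
        card_invSet_mul hp hq]
    obtain ⟨s, hs, t, ht, e⟩ := exists_of_labelCount_eq (fun i j => labelCount_eq_of_cum hcum i j)
    exact Quotient.sound' ((DoubleCoset.rel_iff).2 ⟨s, hs, t, ht, e⟩)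
  · intro q
    induction q using Quotient.inductionOn' with | _ g => ?_
    obtain ⟨w, b, hb, b', hb', e⟩ := exists_bruhat g
    refine ⟨Quotient.mk'' w, ?_⟩
    exact (DoubleCoset.eq _ _ _ _).2 ⟨b, upperTriangularGL_le_parabolicGL μ hb, b',
      upperTriangularGL_le_parabolicGL ν hb', e⟩

theorem card_labelCount_row {μ : Fin n → ℕ} (hμ : ∑ k, μ k = n) (w : Equiv.Perm (Fin n)) (i : Fin n) :
    Nat.card {k : Fin n // compLabel μ (w k) = i.val} = μ i := by
  rw [← card_fibre hμ i]
  exact Nat.card_congr (w.subtypeEquiv fun k => Iff.rfl)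

/-- double cosets of Young subgroups are contingency tables -/
theorem card_doubleCoset_young_eq_table {μ ν : Fin n → ℕ} (hμ : ∑ k, μ k = n) (hν : ∑ k, ν k = n) :
    Nat.card (DoubleCoset.Quotient (youngSubgroup μ : Set (Equiv.Perm (Fin n)))
        (youngSubgroup ν : Set (Equiv.Perm (Fin n)))) = Nat.card (Table μ ν) := by
  classical
  let M : Equiv.Perm (Fin n) → Table μ ν := fun w =>
    ⟨fun i j => labelCount μ ν w i.val j.val, fun i => by
      rw [← card_labelCount_row hμ w i, Nat.card_eq_fintype_card, Fintype.card_subtype,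
        Finset.card_eq_sum_card_fiberwise (t := Finset.univ)
          (f := fun k => (⟨compLabel ν k, compLabel_lt hν k⟩ : Fin n)) (by simp)]
      refine Finset.sum_congr rfl fun j _ => ?_
      simp [labelCount, Finset.filter_filter, Fin.ext_iff], fun j => by
      rw [← card_fibre hν j, Nat.card_eq_fintype_card, Fintype.card_subtype,
        Finset.card_eq_sum_card_fiberwise (t := Finset.univ)
          (f := fun k => (⟨compLabel μ (w k), compLabel_lt hμ (w k)⟩ : Fin n)) (by simp)]
      refine Finset.sum_congr rfl fun i _ => ?_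
      simp [labelCount, Finset.filter_filter, Fin.ext_iff, and_comm]⟩
  have hM : ∀ a b, (DoubleCoset.setoid (youngSubgroup μ : Set (Equiv.Perm (Fin n)))
      (youngSubgroup ν : Set (Equiv.Perm (Fin n)))) a b → M a = M b := by
    intro a b hab
    obtain ⟨h, hh, k, hk, rfl⟩ := (DoubleCoset.rel_iff).1 hab
    apply Subtype.ext
    funext i j
    exact (labelCount_mul hh hk a _ _).symm
  refine Nat.card_congr (Equiv.ofBijective (Quotient.lift M hM) ⟨?_, ?_⟩)
  · intro a b
    induction a using Quotient.inductionOn' with | _ x => ?_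
    induction b using Quotient.inductionOn' with | _ y => ?_
    intro he
    have hxy : ∀ i j, labelCount μ ν x i j = labelCount μ ν y i j := by
      intro i j
      by_cases hi : i < n
      · by_cases hj : j < n
        · exact congrFun (congrFun (congrArg Subtype.val he) ⟨i, hi⟩) ⟨j, hj⟩
        · have : ∀ v, labelCount μ ν v i j = 0 := fun v => by
            rw [labelCount, Finset.card_eq_zero, Finset.filter_eq_empty_iff]
            intro k _ hk; have := compLabel_lt hν k; omega
          rw [this, this]
      · have : ∀ v, labelCount μ ν v i j = 0 := fun v => by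
          rw [labelCount, Finset.card_eq_zero, Finset.filter_eq_empty_iff]
          intro k _ hk; have := compLabel_lt hμ (v k); omega
        rw [this, this]
    obtain ⟨s, hs, t, ht, e⟩ := exists_of_labelCount_eq hxy
    exact Quotient.sound' ((DoubleCoset.rel_iff).2 ⟨s, hs, t, ht, e⟩)
  · rintro ⟨T, hT⟩
    let X := Σ p : Fin n × Fin n, Fin (T p.1 p.2)
    have key : ∀ (a : Fin n → ℕ), ∑ k, a k = n → ∀ (π : Fin n × Fin n → Fin n),
        (∀ i, ∑ p, (if π p = i then T p.1 p.2 else 0) = a i) →
        ∃ e : X ≃ Fin n, ∀ x, compLabel a (e x) = (π x.1).val := by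
      intro a ha π hπ
      have hc : ∀ i, Nonempty ({x : X // π x.1 = i} ≃
          {k : Fin n // (⟨compLabel a k, compLabel_lt ha k⟩ : Fin n) = i}) := by
        intro i
        refine Finite.card_eq.1 ?_
        rw [Nat.card_congr (Equiv.subtypeSigmaEquiv (fun p : Fin n × Fin n => Fin (T p.1 p.2)) (fun p => π p = i)), Nat.card_sigma]
        have h2 : Nat.card {k : Fin n // (⟨compLabel a k, compLabel_lt ha k⟩ : Fin n) = i} = a i := by
          rw [← card_fibre ha i]
          exact Nat.card_congr (Equiv.subtypeEquivRight fun k => Fin.ext_iff)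
        rw [h2, ← hπ i, ← Finset.sum_filter]
        simp only [Nat.card_fin]
        exact (Finset.sum_subtype _ (fun p => by simp) (fun p : Fin n × Fin n => T p.1 p.2)).symm
      refine ⟨Equiv.ofFiberEquiv (f := fun x : X => π x.1)
        (g := fun k : Fin n => (⟨compLabel a k, compLabel_lt ha k⟩ : Fin n))
        fun i => Classical.choice (hc i), fun x => ?_⟩
      have := Equiv.ofFiberEquiv_map (f := fun x : X => π x.1)
        (g := fun k : Fin n => (⟨compLabel a k, compLabel_lt ha k⟩ : Fin n))
        (fun i => Classical.choice (hc i)) x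
      exact congrArg Fin.val this
    obtain ⟨e1, he1⟩ := key μ hμ Prod.fst (fun i => by
      rw [Fintype.sum_prod_type, Fintype.sum_eq_single i (fun b hb => by simp [hb]), ← hT.1 i]
      simp)
    obtain ⟨e2, he2⟩ := key ν hν Prod.snd (fun j => by
      rw [Fintype.sum_prod_type, ← hT.2 j]
      simp)
    refine ⟨Quotient.mk'' (e2.symm.trans e1), ?_⟩
    apply Subtype.ext
    funext i j
    show labelCount μ ν (e2.symm.trans e1) i.val j.val = T i j
    rw [labelCount, ← Fintype.card_subtype]
    rw [← Fintype.card_fin (T i j)]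
    apply Fintype.card_congr
    refine Equiv.trans (e2.symm.subtypeEquiv (q := fun x : X => x.1 = (i, j)) fun k => ?_)
      (Equiv.sigmaSubtype (i, j))
    have h1 := he1 (e2.symm k)
    have h2 := he2 (e2.symm k)
    rw [Equiv.apply_symm_apply] at h2
    simp only [Equiv.trans_apply, Prod.ext_iff, h1, h2, Fin.ext_iff]

/-- The inner product of two flag permutation characters of `GL n F`. -/
theorem inner_parabolic_eq_table [Fintype F] [DecidableEq F] {μ ν : Fin n → ℕ}
    (hμ : ∑ k, μ k = n) (hν : ∑ k, ν k = n) :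
    (Nat.card (GL (Fin n) F) : ℂ)⁻¹ * ∑ g : GL (Fin n) F,
        fixedPointCharacter (parabolicGL n F μ) g * fixedPointCharacter (parabolicGL n F ν) g =
      (Nat.card (Table μ ν) : ℂ) := by
  rw [sum_fixedPointCharacter_mul, ← card_doubleCoset_young_eq_parabolic,
    card_doubleCoset_young_eq_table hμ hν]

end DoubleCosets

end Cfsg.Agent.Lib.GLFlags
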