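import Mathlib
import Cfsg.Prelude.Def_LinearParabolics
import Cfsg.Agent.Lib.GLFlags.DoubleCosets

set_option autoImplicit false

/-!
The order and the index of the standard parabolic subgroups of `GL n F`.
-/

namespace Cfsg.Agent.Lib.GLFlags

open scoped MatrixGroups
open Matrix Finset

/-- the `q`-integer `1 + q + ⋯ + q^(k-1)` -/
def qInt (q k : ℕ) : ℕ := ∑ l ∈ Finset.range k, q ^ l

/-- the `q`-factorial -/
def qFact (q r : ℕ) : ℕ := ∏ j ∈ Finset.range r, qInt q (j + 1)

/-- `0 + 1 + ⋯ + (m-1)` -/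
def triSum (m : ℕ) : ℕ := ∑ i ∈ Finset.range m, i

theorem two_triSum (m : ℕ) : 2 * triSum m + m = m * m := by
  induction m with
  | zero => simp [triSum]
  | succ m ih =>
    simp only [triSum, Finset.sum_range_succ] at ih ⊢
    nlinarith

theorem pred_mul_qInt {q : ℕ} (hq : 1 ≤ q) (k : ℕ) : (q - 1) * qInt q k + 1 = q ^ k := by
  induction k with
  | zero => simp [qInt]
  | succ k ih =>
    obtain ⟨d, rfl⟩ : ∃ d, q = d + 1 := ⟨q - 1, by omega⟩
    rw [qInt, Finset.sum_range_succ, ← qInt, pow_succ, mul_add, Nat.add_sub_cancel] at *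
    nlinarith

theorem qFact_pos {q : ℕ} (hq : 1 ≤ q) (r : ℕ) : 0 < qFact q r :=
  Finset.prod_pos fun j _ => Finset.sum_pos (fun l _ => Nat.pow_pos hq) ⟨0, by simp⟩

theorem prod_pow_sub_pow {q : ℕ} (hq : 1 ≤ q) (m : ℕ) :
    ∏ i : Fin m, (q ^ m - q ^ (i : ℕ)) = q ^ triSum m * (q - 1) ^ m * qFact q m := by
  rw [Fin.prod_univ_eq_prod_range (fun i => q ^ m - q ^ i) m]
  have : ∀ i ∈ Finset.range m, q ^ m - q ^ i = q ^ i * (q - 1) * qInt q (m - 1 - i + 1) := by
    intro i hi
    rw [Finset.mem_range] at hi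
    have h := pred_mul_qInt hq (m - i)
    have h2 : q ^ m = q ^ i * q ^ (m - i) := by rw [← pow_add]; congr 1; omega
    rw [show m - 1 - i + 1 = m - i by omega, h2, mul_assoc]
    have : q ^ i * q ^ (m - i) = q ^ i * ((q - 1) * qInt q (m - i)) + q ^ i := by
      rw [← h]; ring
    omega
  rw [Finset.prod_congr rfl this, Finset.prod_mul_distrib, Finset.prod_mul_distrib,
    Finset.prod_pow_eq_pow_sum, Finset.prod_const, Finset.card_range,
    Finset.prod_range_reflect (fun j => qInt q (j + 1)) m]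
  rfl

variable {n : ℕ}

/-- `compLabel` as a map to `Fin n` -/
def label {μ : Fin n → ℕ} (hμ : ∑ k, μ k = n) (i : Fin n) : Fin n :=
  ⟨compLabel μ i, compLabel_lt hμ i⟩

theorem label_lt_iff {μ : Fin n → ℕ} (hμ : ∑ k, μ k = n) (i j : Fin n) :
    label hμ i < label hμ j ↔ compLabel μ i < compLabel μ j := Iff.rfl

theorem card_label_fibre {μ : Fin n → ℕ} (hμ : ∑ k, μ k = n) (j : Fin n) :
    Nat.card {i : Fin n // label hμ i = j} = μ j := by
  rw [← card_fibre hμ j]
  exact Nat.card_congr (Equiv.subtypeEquivRight fun k => Fin.ext_iff)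

theorem two_mul_card_pairs_add {μ : Fin n → ℕ} (hμ : ∑ k, μ k = n) :
    2 * Nat.card {p : Fin n × Fin n // label hμ p.1 < label hμ p.2} + ∑ j, μ j * μ j = n * n := by
  classical
  have h1 : Nat.card {p : Fin n × Fin n // label hμ p.2 < label hμ p.1} =
      Nat.card {p : Fin n × Fin n // label hμ p.1 < label hμ p.2} :=
    Nat.card_congr ((Equiv.prodComm _ _).subtypeEquiv fun p => Iff.rfl)
  have h2 : Nat.card {p : Fin n × Fin n // label hμ p.1 = label hμ p.2} = ∑ j, μ j * μ j := by
    let e : {p : Fin n × Fin n // label hμ p.1 = label hμ p.2} ≃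
        Σ j : Fin n, {i : Fin n // label hμ i = j} × {i : Fin n // label hμ i = j} :=
      { toFun := fun p => ⟨label hμ p.1.1, ⟨p.1.1, rfl⟩, ⟨p.1.2, p.2.symm⟩⟩
        invFun := fun x => ⟨(x.2.1.1, x.2.2.1), x.2.1.2.trans x.2.2.2.symm⟩
        left_inv := fun p => rfl
        right_inv := by rintro ⟨j, ⟨a, ha⟩, ⟨b, hb⟩⟩; subst ha; rfl }
    rw [Nat.card_congr e, Nat.card_sigma]
    exact Finset.sum_congr rfl fun j _ => by rw [Nat.card_prod, card_label_fibre]
  have h3 : Nat.card (Fin n × Fin n) = n * n := by simp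
  rw [← h3, ← h2]
  simp only [Nat.card_eq_fintype_card, Fintype.card_subtype] at h1 ⊢
  rw [← Finset.card_univ]
  have hsplit := Finset.card_filter_add_card_filter_not
    (s := (Finset.univ : Finset (Fin n × Fin n))) (fun p => label hμ p.1 < label hμ p.2)
  have hsplit2 := Finset.card_filter_add_card_filter_not
    (s := (Finset.univ.filter fun p : Fin n × Fin n => ¬ label hμ p.1 < label hμ p.2))
    (fun p => label hμ p.1 = label hμ p.2)
  rw [Finset.filter_filter, Finset.filter_filter] at hsplit2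
  have ha : (Finset.univ.filter fun p : Fin n × Fin n => ¬ label hμ p.1 < label hμ p.2 ∧
      label hμ p.1 = label hμ p.2) = Finset.univ.filter fun p => label hμ p.1 = label hμ p.2 := by
    ext p
    simp only [Finset.mem_filter, Finset.mem_univ, true_and]
    exact ⟨fun h => h.2, fun h => ⟨h.not_lt, h⟩⟩
  have hb : (Finset.univ.filter fun p : Fin n × Fin n => ¬ label hμ p.1 < label hμ p.2 ∧
      ¬ label hμ p.1 = label hμ p.2) = Finset.univ.filter fun p => label hμ p.2 < label hμ p.1 := by
    ext p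
    simp only [Finset.mem_filter, Finset.mem_univ, true_and]
    constructor
    · rintro ⟨x, y⟩; exact lt_of_le_of_ne (not_lt.1 x) (Ne.symm y)
    · intro h; exact ⟨lt_asymm h, h.ne'⟩
  rw [ha, hb] at hsplit2
  omega

variable {F : Type*} [Field F]

/-- Levi decomposition as a bijection of sets -/
theorem nonempty_parabolic_equiv {μ : Fin n → ℕ} (hμ : ∑ k, μ k = n) :
    Nonempty (parabolicGL n F μ ≃
      (∀ j : Fin n, GL {i : Fin n // label hμ i = j} F) ×
        ({p : Fin n × Fin n // label hμ p.1 < label hμ p.2} → F)) := by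
  classical
  have hbt : ∀ M : Matrix (Fin n) (Fin n) F,
      M.BlockTriangular (compLabel μ) ↔ M.BlockTriangular (label hμ) :=
    fun M => ⟨fun h i j hij => h hij, fun h i j hij => h hij⟩
  have hdet : ∀ g : parabolicGL n F μ, ∀ j : Fin n,
      ((g.1.val).toSquareBlock (label hμ) j).det ≠ 0 := by
    intro g j
    by_cases hj : j ∈ Finset.univ.image (label hμ)
    · have h : (g.1.val).det ≠ 0 := ((Matrix.isUnit_iff_isUnit_det _).1 g.1.isUnit).ne_zero
      rw [((hbt _).1 g.2).det] at h
      exact Finset.prod_ne_zero_iff.1 h j hj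
    · have : IsEmpty {i // label hμ i = j} := ⟨fun i => hj (by simp; exact ⟨i.1, i.2⟩)⟩
      simp [Matrix.toSquareBlock]
  let mk : (∀ j : Fin n, GL {i : Fin n // label hμ i = j} F) →
      ({p : Fin n × Fin n // label hμ p.1 < label hμ p.2} → F) → Matrix (Fin n) (Fin n) F :=
    fun A u => Matrix.of fun r s =>
      if h : label hμ s = label hμ r then (A (label hμ r)).val ⟨r, rfl⟩ ⟨s, h⟩
      else if h' : label hμ r < label hμ s then u ⟨(r, s), h'⟩ else 0
  have mk_bt : ∀ A u, (mk A u).BlockTriangular (label hμ) := fun A u i j hij => by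
    simp [mk, hij.ne, lt_asymm hij]
  have mk_block : ∀ A u j, (mk A u).toSquareBlock (label hμ) j = (A j).val := by
    intro A u j
    ext ⟨r, hr⟩ ⟨s, hs⟩
    subst hr
    simp [mk, Matrix.toSquareBlock_def, hs]
  have mk_det : ∀ A u, (mk A u).det ≠ 0 := by
    intro A u
    rw [(mk_bt A u).det]
    exact Finset.prod_ne_zero_iff.2 fun j _ => by
      rw [mk_block]; exact ((Matrix.isUnit_iff_isUnit_det _).1 (A j).isUnit).ne_zero
  refine ⟨{
    toFun := fun g => (fun j => GeneralLinearGroup.mkOfDetNeZero _ (hdet g j),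
      fun p => g.1.val p.1.1 p.1.2)
    invFun := fun x => ⟨GeneralLinearGroup.mkOfDetNeZero _ (mk_det x.1 x.2), (hbt _).2 (mk_bt x.1 x.2)⟩
    left_inv := ?_
    right_inv := ?_ }⟩
  · intro g
    apply Subtype.ext
    apply Units.ext
    refine Matrix.ext fun r s => ?_
    show mk _ _ r s = g.1.val r s
    simp only [mk, Matrix.of_apply]
    split_ifs with h h'
    · rfl
    · rfl
    · exact (((hbt _).1 g.2) (lt_of_le_of_ne (not_lt.1 h') h)).symm
  · rintro ⟨A, u⟩
    refine Prod.ext (funext fun j => Units.ext ?_) (funext fun p => ?_)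
    · exact mk_block A u j
    · show mk A u p.1.1 p.1.2 = u p
      simp [mk, p.2.ne', p.2]

theorem card_GL_type [Fintype F] (ι : Type*) [Fintype ι] [DecidableEq ι] :
    Nat.card (GL ι F) = Fintype.card F ^ triSum (Fintype.card ι) *
      (Fintype.card F - 1) ^ Fintype.card ι * qFact (Fintype.card F) (Fintype.card ι) := by
  rw [← prod_pow_sub_pow Fintype.card_pos, ← Matrix.card_GL_field (𝔽 := F)]
  exact Nat.card_congr
    (Units.mapEquiv (Matrix.reindexAlgEquiv F F (Fintype.equivFin ι)).toMulEquiv).toEquiv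

/-- `|P_μ|` -/
theorem card_parabolicGL [Fintype F] {μ : Fin n → ℕ} (hμ : ∑ k, μ k = n) :
    Nat.card (parabolicGL n F μ) =
      Fintype.card F ^ triSum n * (Fintype.card F - 1) ^ n *
        ∏ j, qFact (Fintype.card F) (μ j) := by
  classical
  obtain ⟨e⟩ := nonempty_parabolic_equiv (F := F) hμ
  rw [Nat.card_congr e, Nat.card_prod, Nat.card_pi, Nat.card_fun, Nat.card_eq_fintype_card (α := F)]
  have h : ∀ j, Nat.card (GL {i : Fin n // label hμ i = j} F) = Fintype.card F ^ triSum (μ j) *
      (Fintype.card F - 1) ^ μ j * qFact (Fintype.card F) (μ j) := by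
    intro j
    rw [card_GL_type, ← Nat.card_eq_fintype_card (α := {i : Fin n // label hμ i = j}), card_label_fibre]
  rw [Finset.prod_congr rfl fun j _ => h j, Finset.prod_mul_distrib, Finset.prod_mul_distrib,
    Finset.prod_pow_eq_pow_sum, Finset.prod_pow_eq_pow_sum, hμ]
  have hexp : triSum n = (∑ j, triSum (μ j)) +
      Nat.card {p : Fin n × Fin n // label hμ p.1 < label hμ p.2} := by
    have h1 := two_mul_card_pairs_add hμ
    have h2 := two_triSum n
    have h3 : 2 * (∑ j, triSum (μ j)) + n = ∑ j, μ j * μ j := by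
      calc 2 * (∑ j, triSum (μ j)) + n = 2 * (∑ j, triSum (μ j)) + ∑ j, μ j := by rw [hμ]
        _ = ∑ j, (2 * triSum (μ j) + μ j) := by rw [Finset.sum_add_distrib, Finset.mul_sum]
        _ = ∑ j, μ j * μ j := Finset.sum_congr rfl fun j _ => two_triSum _
    omega
  rw [hexp, pow_add]
  ring

/-- The index of `P_μ` times the product of the `q`-factorials of the parts is `{n}`. -/
theorem index_mul_qFact [Fintype F] {μ : Fin n → ℕ} (hμ : ∑ k, μ k = n) :
    Nat.card (GL (Fin n) F ⧸ parabolicGL n F μ) * ∏ j, qFact (Fintype.card F) (μ j) =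
      qFact (Fintype.card F) n := by
  have h := Subgroup.card_eq_card_quotient_mul_card_subgroup (parabolicGL n F μ)
  rw [card_GL_type (F := F) (Fin n), Fintype.card_fin, card_parabolicGL hμ] at h
  have hq : 1 < Fintype.card F := Fintype.one_lt_card
  have hpos : 0 < Fintype.card F ^ triSum n * (Fintype.card F - 1) ^ n :=
    Nat.mul_pos (Nat.pow_pos (by omega)) (Nat.pow_pos (by omega))
  refine (Nat.eq_of_mul_eq_mul_left hpos ?_).symm
  rw [h]
  ring

end Cfsg.Agent.Lib.GLFlags
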