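import Mathlib
import Cfsg.Agent.Lib.GLFlags.Bruhat
import Cfsg.Agent.Lib.GLFlags.Index

set_option autoImplicit false

/-!
Conjugates of the upper triangular group of `GL n 2` meeting it trivially lie in the big cell.
-/

namespace Cfsg.Agent.Lib.GLFlags

open scoped MatrixGroups Pointwise
open Matrix

variable {n : ℕ}

theorem compLabel_ones (i : Fin n) : Cfsg.compLabel (fun _ : Fin n => 1) i = i.val := by
  rw [compLabel_eq_iff]
  simp [below]

theorem upperTriangularGL_eq_parabolic {F : Type*} [Field F] :
    Cfsg.upperTriangularGL n F = Cfsg.parabolicGL n F (fun _ => 1) := by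
  ext g
  rw [mem_upperTriangularGL_iff, mem_parabolicGL_iff]
  simp only [compLabel_ones, Fin.val_fin_lt]

theorem card_upperTriangular_two :
    Nat.card (Cfsg.upperTriangularGL n (ZMod 2)) = 2 ^ (n * (n - 1) / 2) := by
  rw [upperTriangularGL_eq_parabolic, card_parabolicGL (by simp), ZMod.card, triSum, Finset.sum_range_id]
  simp [qFact, qInt]

/-- elementary upper unitriangular element -/
noncomputable def elemUpper {F : Type*} [Field F] (i j : Fin n) (h : i ≠ j) : GL (Fin n) F :=
  GeneralLinearGroup.mkOfDetNeZero (Matrix.transvection i j 1)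
    (by rw [Matrix.det_transvection_of_ne i j h]; exact one_ne_zero)

theorem elemUpper_mem {F : Type*} [Field F] {i j : Fin n} (h : i < j) :
    (elemUpper i j h.ne : GL (Fin n) F) ∈ Cfsg.upperTriangularGL n F := by
  rw [mem_upperTriangularGL_iff]
  intro a b hab
  show Matrix.transvection i j (1 : F) a b = 0
  rw [Matrix.transvection, Matrix.add_apply, Matrix.one_apply_ne hab.ne', zero_add,
    Matrix.single_apply, if_neg]
  rintro ⟨rfl, rfl⟩
  exact lt_asymm hab h

/-- If the conjugate of the Borel subgroup meets it trivially, the element is in the big cell. -/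
theorem exists_of_inf_conj_eq_bot {F : Type*} [Field F] (g : GL (Fin n) F)
    (h : ∀ y ∈ Cfsg.upperTriangularGL n F, g⁻¹ * y * g ∈ Cfsg.upperTriangularGL n F → y = 1) :
    ∃ b ∈ Cfsg.upperTriangularGL n F, ∃ b' ∈ Cfsg.upperTriangularGL n F,
      g = b * permGL Fin.revPerm * b' := by
  obtain ⟨w, b, hb, b', hb', e⟩ := exists_bruhat g
  refine ⟨b, hb, b', hb', ?_⟩
  suffices hw : w = Fin.revPerm by rw [e, hw]
  have hanti : StrictAnti w := by
    intro i j hij
    by_contra hle
    have hlt : w i < w j := lt_of_le_of_ne (not_lt.1 hle) (fun he => hij.ne (w.injective he))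
    have hconj : elemUpper (w i) (w j) hlt.ne * permGL w = (permGL w * elemUpper i j hij.ne : GL (Fin n) F) := by
      refine Units.ext ?_
      ext a c
      rw [mul_permGL_apply, Units.val_mul, Matrix.mul_apply]
      show Matrix.transvection (w i) (w j) (1 : F) a (w c) = ∑ k, (permGL w : GL (Fin n) F).val a k * Matrix.transvection i j (1 : F) k c
      rw [Fintype.sum_eq_single (w.symm a) (fun k hk => by
        rw [permGL_apply, if_neg, zero_mul]
        rintro rfl
        exact hk (w.symm_apply_apply k).symm)]
      rw [permGL_apply, if_pos (w.apply_symm_apply a).symm, one_mul]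
      have e1 : (a = w c) ↔ (w.symm a = c) := ⟨fun h => by rw [h]; exact w.symm_apply_apply c, fun h => by rw [← h]; exact (w.apply_symm_apply a).symm⟩
      have e2 : (w i = a) ↔ (i = w.symm a) := ⟨fun h => by rw [← h]; exact (w.symm_apply_apply i).symm, fun h => by rw [h]; exact w.apply_symm_apply a⟩
      simp only [Matrix.transvection, Matrix.add_apply, Matrix.one_apply, Matrix.single_apply]
      rw [if_congr e1 rfl rfl, if_congr (Iff.and e2 w.injective.eq_iff) rfl rfl]
    have hy := h (b * elemUpper (w i) (w j) hlt.ne * b⁻¹)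
      (mul_mem (mul_mem hb (elemUpper_mem hlt)) (inv_mem hb)) (by
        have : g⁻¹ * (b * elemUpper (w i) (w j) hlt.ne * b⁻¹) * g = b'⁻¹ * elemUpper i j hij.ne * b' := by
          rw [e]
          calc (b * permGL w * b')⁻¹ * (b * elemUpper (w i) (w j) hlt.ne * b⁻¹) * (b * permGL w * b')
              = b'⁻¹ * (permGL w)⁻¹ * (elemUpper (w i) (w j) hlt.ne * permGL w) * b' := by group
            _ = _ := by rw [hconj]; group
        rw [this]
        exact mul_mem (mul_mem (inv_mem hb') (elemUpper_mem hij)) hb')
    rw [conj_eq_one_iff] at hy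
    have := congrArg (fun u : GL (Fin n) F => u.val (w i) (w j)) hy
    simp [elemUpper, GeneralLinearGroup.mkOfDetNeZero, Matrix.transvection, hlt.ne] at this
  ext k : 1
  have h1 : StrictMono fun k => Fin.rev (w k) := fun a c hac => Fin.rev_lt_rev.2 (hanti hac)
  have hsurj : Function.Surjective fun k => Fin.rev (w k) := Fin.rev_surjective.comp w.surjective
  have h2 : (fun k => Fin.rev (w k)) = id := (StrictMono.range_inj h1 strictMono_id).1 (by
    rw [hsurj.range_eq, Set.range_id])
  have := congrFun h2 k
  simp only [id_eq] at this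
  show w k = Fin.rev k
  rw [← Fin.rev_rev (w k), this]

end Cfsg.Agent.Lib.GLFlags
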