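import Mathlib
import Cfsg.Prelude.Def_LinearParabolics
import Cfsg.Prelude.Def_Characters
import Cfsg.Agent.Lib.Chars.Basic
import Cfsg.Agent.Lib.Chars.Completeness
import Cfsg.Agent.Lib.GLFlags.DoubleCosets
import Cfsg.Agent.Lib.GLFlags.Index
import Cfsg.Agent.Lib.GLFlags.Cauchy

set_option autoImplicit false

/-!
The characters of `GL n F` attached to partitions by alternating sums of flag characters:
orthonormality, degrees, irreducibility.
-/

namespace Cfsg.Agent.Lib.GLFlags

open scoped MatrixGroups ComplexConjugate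
open Finset Cfsg.Agent.Lib.Chars

universe u

/-- An integral combination of characters of norm one whose degree is positive is irreducible. -/
theorem isIrrCharacter_of_intCombination {G : Type u} [Group G] [Fintype G] {ι : Type*}
    (s : Finset ι) (c : ι → ℤ) (f : ι → G → ℂ) (hf : ∀ i ∈ s, IsCharacter G (f i))
    (hnorm : classInner (∑ i ∈ s, (c i : ℂ) • f i) (∑ i ∈ s, (c i : ℂ) • f i) = 1)
    (hpos : ∃ a b : ℕ, 0 < a ∧ 0 < b ∧ (∑ i ∈ s, (c i : ℂ) • f i) 1 * (b : ℂ) = (a : ℂ)) :
    IsIrrCharacter G (∑ i ∈ s, (c i : ℂ) • f i) := by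
  classical
  choose! m hm using fun i hi => isCharacter_exists_nat_decomp (hf i hi)
  let a : IrrCharacter G → ℤ := fun χ => ∑ i ∈ s, c i * (m i χ : ℤ)
  have hψ : (∑ i ∈ s, (c i : ℂ) • f i) = ∑ χ : IrrCharacter G, (a χ : ℂ) • (χ : G → ℂ) := by
    rw [Finset.sum_congr rfl fun i hi => by rw [hm i hi]]
    simp only [Finset.smul_sum, smul_smul]
    rw [Finset.sum_comm]
    simp only [a, Int.cast_sum, Int.cast_mul, Int.cast_natCast, Finset.sum_smul]
  rw [hψ, classInner_sum_smul_sum_smul] at hnorm
  simp only [map_intCast] at hnorm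
  have h2 : ∑ χ, a χ * a χ = 1 := by exact_mod_cast hnorm
  obtain ⟨χ₀, -, h0⟩ := Finset.exists_ne_zero_of_sum_ne_zero (h2 ▸ one_ne_zero)
  have hle := Finset.single_le_sum (f := fun χ => a χ * a χ) (fun χ _ => mul_self_nonneg _)
    (Finset.mem_univ χ₀)
  have hsq : a χ₀ * a χ₀ = 1 := by
    have h1 := mul_self_nonneg (a χ₀)
    omega
  have hz : ∀ χ, χ ≠ χ₀ → a χ = 0 := by
    intro χ hne
    have := Finset.add_le_sum (f := fun χ => a χ * a χ) (fun χ _ => mul_self_nonneg _)
      (Finset.mem_univ χ) (Finset.mem_univ χ₀) hne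
    have h1 := mul_self_nonneg (a χ)
    exact mul_self_eq_zero.1 (by omega)
  have hsum : ∑ χ : IrrCharacter G, (a χ : ℂ) • (χ : G → ℂ) = (a χ₀ : ℂ) • (χ₀ : G → ℂ) := by
    rw [Finset.sum_eq_single χ₀ (fun χ _ hne => by simp [hz χ hne]) (by simp)]
  rw [hψ, hsum]
  rcases Int.eq_one_or_neg_one_of_mul_eq_one hsq with h | h
  · simpa [h] using χ₀.2
  · exfalso
    obtain ⟨A, B, hA, hB, hval⟩ := hpos
    obtain ⟨d, hd, hd1⟩ := isIrrCharacter_exists_degree_pos χ₀.2
    rw [hψ, hsum, h, Pi.smul_apply, hd1] at hval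
    simp only [Int.cast_neg, Int.cast_one, smul_eq_mul, neg_mul, one_mul] at hval
    have h' : ((A + d * B : ℕ) : ℂ) = 0 := by push_cast; linear_combination -hval
    norm_cast at h'
    omega

variable {n : ℕ}

/-- `ν_i + i` -/
def shift (ν : Fin n → ℕ) (i : Fin n) : ℕ := ν i + i.val

theorem strictMono_shift {ν : Fin n → ℕ} (h : Monotone ν) : StrictMono (shift ν) := fun a b hab => by
  have := h hab.le
  have h2 : a.val < b.val := hab
  simp only [shift]
  omega

/-- the composition `λ - κ` -/
def twisted (ν : Fin n → ℕ) (κ : Equiv.Perm (Fin n)) (i : Fin n) : ℕ := ν i + i.val - (κ i).val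

/-- the admissible permutations -/
def admissible (ν : Fin n → ℕ) : Finset (Equiv.Perm (Fin n)) :=
  Finset.univ.filter fun κ => ∀ i : Fin n, (κ i).val ≤ ν i + i.val

theorem sum_twisted {ν : Fin n → ℕ} (hsum : ∑ i, ν i = n) {κ : Equiv.Perm (Fin n)}
    (hκ : κ ∈ admissible ν) : ∑ i, twisted ν κ i = n := by
  simp only [admissible, Finset.mem_filter, Finset.mem_univ, true_and] at hκ
  have h1 : ∑ i, twisted ν κ i + ∑ i, (κ i).val = ∑ i, (ν i + i.val) := by
    rw [← Finset.sum_add_distrib]
    exact Finset.sum_congr rfl fun i _ => Nat.sub_add_cancel (hκ i)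
  rw [Equiv.sum_comp κ (fun i : Fin n => i.val), Finset.sum_add_distrib, hsum] at h1
  omega

variable {F : Type u} [Field F]

theorem unipotentCharacterGL_eq (ν : Fin n → ℕ) :
    unipotentCharacterGL n F ν = ∑ κ ∈ admissible ν,
      (((Equiv.Perm.sign κ : ℤ) : ℤ) : ℂ) • fixedPointCharacter (parabolicGL n F (twisted ν κ)) := by
  funext g
  rw [Finset.sum_apply, admissible, Finset.sum_filter]
  refine Finset.sum_congr rfl fun κ _ => ?_
  split_ifs <;> rfl

theorem conj_fixedPointCharacter {G : Type*} [Group G] (H : Subgroup G) (g : G) :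
    conj (fixedPointCharacter H g) = fixedPointCharacter H g := by
  simp [fixedPointCharacter]

theorem classInner_fixedPoint [Fintype F] [DecidableEq F] {μ ν : Fin n → ℕ} (hμ : ∑ k, μ k = n)
    (hν : ∑ k, ν k = n) :
    classInner (fixedPointCharacter (parabolicGL n F μ)) (fixedPointCharacter (parabolicGL n F ν)) =
      (Nat.card (Table μ ν) : ℂ) := by
  rw [classInner]
  simp only [conj_fixedPointCharacter]
  exact inner_parabolic_eq_table hμ hν

open Classical in
theorem classInner_unipotent [Fintype F] [DecidableEq F] {ν ν' : Fin n → ℕ} (hm : Monotone ν)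
    (hs : ∑ i, ν i = n) (hm' : Monotone ν') (hs' : ∑ i, ν' i = n) :
    classInner (unipotentCharacterGL n F ν) (unipotentCharacterGL n F ν') =
      if ν = ν' then 1 else 0 := by
  rw [unipotentCharacterGL_eq, unipotentCharacterGL_eq, classInner_sum_left]
  have key := Cauchy.alternating_table_count (shift ν) (shift ν') (strictMono_shift hm)
    (strictMono_shift hm')
  have hkey := congrArg (fun z : ℤ => (z : ℂ)) key
  simp only [Int.cast_sum] at hkey
  have hiff : shift ν = shift ν' ↔ ν = ν' :=
    ⟨fun h => funext fun i => Nat.add_right_cancel (congrFun h i), fun h => by rw [h]⟩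
  rw [if_congr hiff rfl rfl] at hkey
  have hR : ((if ν = ν' then (1 : ℤ) else 0 : ℤ) : ℂ) = if ν = ν' then 1 else 0 := by
    split_ifs <;> simp
  rw [← hR, ← hkey, admissible, Finset.sum_filter]
  refine Finset.sum_congr rfl fun κ _ => ?_
  by_cases hκ : ∀ i : Fin n, (κ i).val ≤ ν i + i.val
  · rw [if_pos hκ, classInner_sum_right, admissible, Finset.sum_filter]
    refine Finset.sum_congr rfl fun κ' _ => ?_
    by_cases hκ' : ∀ i : Fin n, (κ' i).val ≤ ν' i + i.val
    · rw [if_pos hκ', classInner_smul_left, classInner_smul_right,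
        classInner_fixedPoint (sum_twisted hs (by simp [admissible, hκ]))
          (sum_twisted hs' (by simp [admissible, hκ'])),
        if_pos ⟨hκ, hκ'⟩]
      simp only [map_intCast, Int.cast_mul, Int.cast_natCast]
      rw [mul_assoc]
      rfl
    · rw [if_neg hκ', if_neg (fun h => hκ' h.2)]
      simp
  · rw [if_neg hκ]
    symm
    refine Finset.sum_eq_zero fun κ' _ => ?_
    rw [if_neg (fun h => hκ h.1)]
    simp

/-- `Q(l) Q(l-1) ⋯ Q(l-k+1)` -/
def qFalling (q l k : ℕ) : ℕ := ∏ m ∈ Finset.range k, qInt q (l - m)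

theorem qFalling_mul_qFact (q l : ℕ) : ∀ k, k ≤ l → qFalling q l k * qFact q (l - k) = qFact q l := by
  intro k
  induction k with
  | zero => intro _; simp [qFalling]
  | succ k ih =>
    intro hk
    have h := ih (by omega)
    have e : qFact q (l - k) = qFact q (l - (k + 1)) * qInt q (l - k) := by
      rw [show l - k = l - (k + 1) + 1 by omega, qFact, Finset.prod_range_succ, ← qFact]
    rw [qFalling, Finset.prod_range_succ, ← qFalling, mul_assoc, mul_comm (qInt q (l - k)), ← e, h]

theorem qFalling_eq_zero (q l k : ℕ) (h : l < k) : qFalling q l k = 0 :=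
  Finset.prod_eq_zero (Finset.mem_range.2 h) (by simp [qInt])

theorem qInt_add (q m k : ℕ) : qInt q (m + k) = qInt q m + q ^ m * qInt q k := by
  rw [qInt, Finset.sum_range_add, qInt, qInt, Finset.mul_sum]
  simp [pow_add]

theorem prod_qInt_sub {R : Type*} [CommRing R] (q l j : ℕ) :
    ∏ m ∈ Finset.range j, ((qInt q l : R) - (qInt q m : R)) =
      ((q ^ triSum j * qFalling q l j : ℕ) : R) := by
  rcases Nat.lt_or_ge l j with h | h
  · rw [qFalling_eq_zero q l j h, mul_zero, Nat.cast_zero]
    exact Finset.prod_eq_zero (Finset.mem_range.2 h) (sub_self _)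
  · rw [triSum, ← Finset.prod_pow_eq_pow_sum, qFalling, ← Finset.prod_mul_distrib, Nat.cast_prod]
    refine Finset.prod_congr rfl fun m hm => ?_
    rw [Finset.mem_range] at hm
    have := qInt_add q m (l - m)
    rw [Nat.add_sub_cancel' (by omega)] at this
    rw [this]
    push_cast
    ring

theorem sum_triSum (n : ℕ) : ∑ j ∈ Finset.range n, triSum j = n * (n - 1) * (n - 2) / 6 := by
  have h : ∀ m, 6 * (∑ j ∈ Finset.range m, triSum j) + 3 * (m * m) = m * m * m + 2 * m := by
    intro m
    induction m with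
    | zero => simp
    | succ m ih =>
      have := two_triSum m
      rw [Finset.sum_range_succ]
      nlinarith
  have h6 : 6 * (∑ j ∈ Finset.range n, triSum j) = n * (n - 1) * (n - 2) := by
    rcases n with _ | _ | k
    · simp
    · simp [triSum]
    · have := h (k + 2)
      simp only [Nat.add_sub_cancel, show k + 1 + 1 - 1 = k + 1 by omega,
        show k + 1 + 1 - 2 = k by omega]
      nlinarith
  rw [← h6, Nat.mul_div_cancel_left _ (by norm_num)]

theorem fixedPointCharacter_one {G : Type*} [Group G] (H : Subgroup G) :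
    fixedPointCharacter H 1 = (Nat.card (G ⧸ H) : ℂ) := by
  rw [fixedPointCharacter]
  congr 1
  exact Nat.card_congr ((Equiv.setCongr (by ext; simp)).trans (Equiv.Set.univ (G ⧸ H)))

/-- the degree formula -/
theorem degree_formula [Fintype F] (ν : Fin n → ℕ) (hsum : ∑ i, ν i = n) :
    unipotentCharacterGL n F ν 1 * (Fintype.card F : ℂ) ^ (n * (n - 1) * (n - 2) / 6) *
        ∏ i : Fin n, (qFact (Fintype.card F) (ν i + i.val) : ℂ) =
      (qFact (Fintype.card F) n : ℂ) *
        ∏ i : Fin n, ∏ j ∈ Finset.Ioi i,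
          ((qInt (Fintype.card F) (ν j + j.val) : ℂ) - (qInt (Fintype.card F) (ν i + i.val) : ℂ)) := by
  classical
  set q := Fintype.card F with hqdef
  let p : Fin n → Polynomial ℂ := fun j =>
    ∏ m ∈ Finset.range j.val, (Polynomial.X - Polynomial.C (qInt q m : ℂ))
  have hmonic : ∀ j, (p j).Monic := fun j =>
    Polynomial.monic_prod_of_monic _ _ fun m _ => Polynomial.monic_X_sub_C _
  have hdeg : ∀ j, (p j).natDegree = j.val := fun j => by
    rw [Polynomial.natDegree_prod_of_monic _ _ fun m _ => Polynomial.monic_X_sub_C _]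
    simp only [Polynomial.natDegree_X_sub_C]
    simp
  have hdet := Matrix.det_eval_matrixOfPolynomials_eq_det_vandermonde
    (fun i : Fin n => (qInt q (ν i + i.val) : ℂ)) p hdeg hmonic
  rw [Matrix.det_vandermonde] at hdet
  rw [hdet, ← Matrix.det_transpose, Matrix.det_apply', Finset.mul_sum]
  rw [unipotentCharacterGL_eq, Finset.sum_apply, Finset.sum_mul, Finset.sum_mul, admissible,
    Finset.sum_filter]
  refine Finset.sum_congr rfl fun κ _ => ?_
  simp only [Matrix.transpose_apply, Matrix.of_apply, p, Polynomial.eval_prod, Polynomial.eval_sub,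
    Polynomial.eval_X, Polynomial.eval_C, prod_qInt_sub]
  by_cases hκ : ∀ i : Fin n, (κ i).val ≤ ν i + i.val
  · rw [if_pos hκ, Pi.smul_apply, smul_eq_mul, fixedPointCharacter_one]
    have hidx := index_mul_qFact (F := F) (sum_twisted hsum
      (show κ ∈ admissible ν by simp [admissible, hκ]))
    have hprod : ∏ i, qFact q (ν i + i.val) =
        (∏ i, qFalling q (ν i + i.val) (κ i).val) * ∏ i, qFact q (twisted ν κ i) := by
      rw [← Finset.prod_mul_distrib]
      exact Finset.prod_congr rfl fun i _ => (qFalling_mul_qFact q _ _ (hκ i)).symm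
    have hq : ∏ i : Fin n, q ^ triSum (κ i).val = q ^ (n * (n - 1) * (n - 2) / 6) := by
      rw [Finset.prod_pow_eq_pow_sum, Equiv.sum_comp κ (fun i : Fin n => triSum i.val),
        Fin.sum_univ_eq_sum_range triSum n, sum_triSum]
    rw [← Nat.cast_prod, ← Nat.cast_prod, ← Nat.cast_pow, hprod, ← hidx, Finset.prod_mul_distrib, hq]
    push_cast
    ring
  · rw [if_neg hκ]
    push Not at hκ
    obtain ⟨i, hi⟩ := hκ
    rw [Finset.prod_eq_zero (Finset.mem_univ i)]
    · simp
    · rw [qFalling_eq_zero q _ _ hi]; simp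

theorem qInt_lt {q a b : ℕ} (hq : 1 ≤ q) (h : a < b) : qInt q a < qInt q b := by
  refine Finset.sum_lt_sum_of_subset (i := a) ?_ ?_ ?_ (Nat.pow_pos hq) (fun _ _ _ => Nat.zero_le _)
  · exact Finset.range_subset_range.2 h.le
  · simpa using h
  · simp

theorem degree_pos [Fintype F] {ν : Fin n → ℕ} (hm : Monotone ν) (hsum : ∑ i, ν i = n) :
    ∃ a b : ℕ, 0 < a ∧ 0 < b ∧ unipotentCharacterGL n F ν 1 * (b : ℂ) = (a : ℂ) := by
  set q := Fintype.card F with hqdef
  have hq : 1 ≤ q := Fintype.card_pos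
  refine ⟨qFact q n * ∏ i : Fin n, ∏ j ∈ Finset.Ioi i,
      (qInt q (ν j + j.val) - qInt q (ν i + i.val)),
    q ^ (n * (n - 1) * (n - 2) / 6) * ∏ i : Fin n, qFact q (ν i + i.val), ?_, ?_, ?_⟩
  · refine Nat.mul_pos (qFact_pos hq n) (Finset.prod_pos fun i _ => Finset.prod_pos fun j hj => ?_)
    exact Nat.sub_pos_of_lt (qInt_lt hq (strictMono_shift hm (Finset.mem_Ioi.1 hj)))
  · exact Nat.mul_pos (Nat.pow_pos hq) (Finset.prod_pos fun i _ => qFact_pos hq _)
  · rw [Nat.cast_mul, Nat.cast_mul, Nat.cast_pow, Nat.cast_prod, Nat.cast_prod, ← mul_assoc,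
      degree_formula ν hsum]
    congr 1
    refine Finset.prod_congr rfl fun i _ => ?_
    rw [Nat.cast_prod]
    refine Finset.prod_congr rfl fun j hj => ?_
    have hlt : ν i + i.val < ν j + j.val := strictMono_shift hm (Finset.mem_Ioi.1 hj)
    rw [Nat.cast_sub (qInt_lt hq hlt).le]

theorem isIrrCharacter_unipotent [Fintype F] {ν : Fin n → ℕ} (hm : Monotone ν)
    (hsum : ∑ i, ν i = n) : IsIrrCharacter (GL (Fin n) F) (unipotentCharacterGL n F ν) := by
  classical
  have hinner := classInner_unipotent (F := F) hm hsum hm hsum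
  rw [if_pos rfl] at hinner
  have hpos := degree_pos (F := F) hm hsum
  rw [unipotentCharacterGL_eq] at hinner hpos ⊢
  refine isIrrCharacter_of_intCombination _ _ _ (fun κ _ => ?_) ?_ hpos
  · exact isCharacter_permChar (GL (Fin n) F ⧸ parabolicGL n F (twisted ν κ))
  · convert hinner using 2

theorem unipotentCharacterGL_injective [Fintype F] {ν ν' : Fin n → ℕ} (hm : Monotone ν)
    (hs : ∑ i, ν i = n) (hm' : Monotone ν') (hs' : ∑ i, ν' i = n)
    (h : unipotentCharacterGL n F ν = unipotentCharacterGL n F ν') : ν = ν' := by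
  classical
  by_contra hne
  have h1 := classInner_unipotent (F := F) hm hs hm' hs'
  rw [if_neg hne, ← h, classInner_unipotent hm hs hm hs, if_pos rfl] at h1
  exact one_ne_zero h1

end Cfsg.Agent.Lib.GLFlags
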